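import Cfsg.Agent.Lib.J1Weak.Facts

/-!
# Weak closure `C₂ × A₅` of a 2-central involution in its centralizer

The Sylow four-group together with `t` gives a weakly closed subgroup `E` of order eight; its normalizer is
transitive on its involutions, so every involution of the weak closure is conjugate to `t`.
-/

set_option autoImplicit false
set_option linter.all false

namespace Cfsg.Agent.J1Weak

open Cfsg.Agent.Involutions.Basic Cfsg.Agent.CentralTwoAlt

universe u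

/-- The hypothesis. -/
structure WC (G : Type u) [Group G] where
  t : G
  two : Cfsg.IsTwoCentralInvolution t
  φ : K5 →* G
  inj : Function.Injective φ
  range : φ.range = Subgroup.closure {x : G | ∃ g : G, x = g * t * g⁻¹ ∧ x * t = t * x}

namespace WC

variable {G : Type u} [Group G] (c : WC G)

/-- The class of `t`. -/
def X : Set G := {x | ∃ g : G, g * c.t * g⁻¹ = x}

theorem t_mem_X : c.t ∈ c.X := ⟨1, by group⟩

theorem conj_mem_X {x : G} (g : G) (h : x ∈ c.X) : g * x * g⁻¹ ∈ c.X := by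
  obtain ⟨k, rfl⟩ := h
  exact ⟨g * k, by group⟩

theorem orderOf_t : orderOf c.t = 2 := c.two.1

theorem orderOf_X {x : G} (h : x ∈ c.X) : orderOf x = 2 := by
  obtain ⟨k, rfl⟩ := h
  rw [orderOf_conj, c.orderOf_t]

theorem mem_W {x : G} (hx : x ∈ c.X) (hc : Commute x c.t) : x ∈ c.φ.range := by
  rw [c.range]
  obtain ⟨g, hg⟩ := hx
  exact Subgroup.subset_closure ⟨g, hg.symm, hc.eq⟩

theorem t_mem_W : c.t ∈ c.φ.range := c.mem_W c.t_mem_X (Commute.refl _)

theorem W_comm (k : K5) : Commute (c.φ k) c.t := by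
  have : c.φ.range ≤ Subgroup.centralizer ({c.t} : Set G) := by
    rw [c.range, Subgroup.closure_le]
    rintro x ⟨g, -, hx⟩
    exact Subgroup.mem_centralizer_singleton_iff.2 hx
  exact Subgroup.mem_centralizer_singleton_iff.1 (this ⟨k, rfl⟩)

theorem phi_tau : c.φ τK = c.t := by
  obtain ⟨k, hk⟩ := c.t_mem_W
  have h := center_K k
  simp only [Bool.or_eq_true, decide_eq_true_eq, List.any_eq_true, Bool.not_eq_true', decide_eq_false_iff_not] at h
  rcases h with (h | h) | ⟨g, -, hg⟩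
  · rw [h, map_one] at hk
    exact absurd hk.symm (ne_one c.orderOf_t)
  · rw [← h, hk]
  · exact absurd (c.inj (by rw [map_mul, map_mul, hk]; exact (c.W_comm g).symm.eq)) hg

theorem W_conj {g : G} (hg : Commute g c.t) : ∀ w ∈ c.φ.range, g * w * g⁻¹ ∈ c.φ.range := by
  intro w hw
  have : c.φ.range ≤ c.φ.range.comap (MulAut.conj g).toMonoidHom := by
    nth_rewrite 1 [c.range]
    rw [Subgroup.closure_le]
    rintro x ⟨k, rfl, hx⟩
    refine c.mem_W (c.conj_mem_X g ⟨k, rfl⟩) ?_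
    show g * (k * c.t * k⁻¹) * g⁻¹ * c.t = c.t * (g * (k * c.t * k⁻¹) * g⁻¹)
    have h' : g⁻¹ * c.t = c.t * g⁻¹ := hg.inv_left.eq
    calc g * (k * c.t * k⁻¹) * g⁻¹ * c.t = g * (k * c.t * k⁻¹) * (g⁻¹ * c.t) := by group
      _ = g * (k * c.t * k⁻¹ * c.t) * g⁻¹ := by rw [h']; group
      _ = g * (c.t * (k * c.t * k⁻¹)) * g⁻¹ := by rw [hx]
      _ = (g * c.t) * (k * c.t * k⁻¹) * g⁻¹ := by group
      _ = _ := by rw [hg.eq]; group
  exact this hw

/-- The standard elementary abelian subgroup of order eight. -/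
def E : Subgroup G where
  carrier := {g | ∃ k ∈ sd p5, c.φ k = g}
  one_mem' := ⟨1, std5.one, map_one _⟩
  mul_mem' := by
    rintro a b ⟨k, hk, rfl⟩ ⟨l, hl, rfl⟩
    exact ⟨k * l, (std5.mul k hk l hl).1, map_mul _ _ _⟩
  inv_mem' := by
    rintro a ⟨k, hk, rfl⟩
    refine ⟨k, hk, (inv_eq_of_mul_eq_one_right ?_).symm⟩
    rw [← map_mul, (std5.mul k hk k hk).2.2, map_one]

theorem mem_E {g : G} : g ∈ c.E ↔ ∃ k ∈ sd p5, c.φ k = g := Iff.rfl

theorem t_mem_E : c.t ∈ c.E := ⟨τK, std5.tau.1, c.phi_tau⟩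

theorem E_le_W : c.E ≤ c.φ.range := by
  rintro _ ⟨k, -, rfl⟩
  exact ⟨k, rfl⟩

theorem comm_E {a b : G} (ha : a ∈ c.E) (hb : b ∈ c.E) : Commute a b := by
  obtain ⟨k, hk, rfl⟩ := ha
  obtain ⟨l, hl, rfl⟩ := hb
  show c.φ k * c.φ l = c.φ l * c.φ k
  rw [← map_mul, ← map_mul, (std5.mul k hk l hl).2.1]

theorem sq_E {a : G} (ha : a ∈ c.E) : a * a = 1 := by
  obtain ⟨k, hk, rfl⟩ := ha
  rw [← map_mul, (std5.mul k hk k hk).2.2, map_one]

theorem card_E : Nat.card c.E = 8 := by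
  let f : {k // k ∈ sd p5} → c.E := fun k => ⟨c.φ k, k.1, k.2, rfl⟩
  have hf : Function.Bijective f := ⟨fun a b h => Subtype.ext (c.inj (congrArg Subtype.val h)),
    fun ⟨g, k, hk, e⟩ => ⟨⟨k, hk⟩, Subtype.ext e⟩⟩
  rw [← Nat.card_congr (Equiv.ofBijective f hf), Nat.card_eq_fintype_card, Fintype.card_coe, card_sd]

theorem card_W : Nat.card c.φ.range = 120 := by
  rw [← Nat.card_congr (MonoidHom.ofInjective c.inj).toEquiv, model_card.2]

theorem phi_x_normalizes {g : G} (hg : g ∈ c.E) : c.φ xK * g * (c.φ xK)⁻¹ ∈ c.E := by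
  obtain ⟨k, hk, rfl⟩ := hg
  exact ⟨_, std5.xconj k hk, by simp [xK]⟩

variable [Finite G]

theorem mem_normalizer_of {H : Subgroup G} {g : G} (h : ∀ e ∈ H, g * e * g⁻¹ ∈ H) :
    g ∈ Subgroup.normalizer (H : Set G) := by
  have hmap : H.map (MulAut.conj g).toMonoidHom = H := Subgroup.eq_of_le_of_card_ge
    (by rintro _ ⟨e, he, rfl⟩; exact h e he)
    (by rw [Subgroup.card_map_of_injective (MulEquiv.injective _)])
  refine Subgroup.mem_normalizer_iff.2 fun e => ⟨h e, fun he => ?_⟩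
  rw [← hmap] at he
  obtain ⟨a, ha, e'⟩ := he
  change g * a * g⁻¹ = g * e * g⁻¹ at e'
  rwa [mul_left_cancel (mul_right_cancel e')] at ha

theorem xE_normalizer : c.φ xK ∈ Subgroup.normalizer (c.E : Set G) :=
  mem_normalizer_of fun _ he => c.phi_x_normalizes he

/-- A Sylow 2-subgroup centralizing `t` and meeting the weak closure in `E`. -/
theorem exists_sylow : ∃ S : Sylow 2 G, c.E ≤ S ∧ (∀ s ∈ (S : Subgroup G), Commute s c.t) ∧
    ∀ s ∈ (S : Subgroup G), s ∈ c.φ.range → s ∈ c.E := by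
  haveI : Fact (Nat.Prime 2) := ⟨Nat.prime_two⟩
  obtain ⟨-, P, -, hP⟩ := c.two
  set C := Subgroup.centralizer ({c.t} : Set G) with hC
  have hPC : (P : Subgroup G) ≤ C := fun g hg => Subgroup.mem_centralizer_singleton_iff.2 (hP g hg)
  have hEC : c.E ≤ C := fun g hg => by
    obtain ⟨k, rfl⟩ := c.E_le_W hg
    exact Subgroup.mem_centralizer_singleton_iff.2 (c.W_comm k).eq
  let P' : Sylow 2 C := P.subtype hPC
  have hE2 : IsPGroup 2 (c.E.subgroupOf C) := IsPGroup.of_card (n := 3)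
    (by rw [Nat.card_congr (Subgroup.subgroupOfEquivOfLe hEC).toEquiv, c.card_E]; norm_num)
  obtain ⟨Q, hQ⟩ := hE2.exists_le_sylow
  obtain ⟨d, hd⟩ := MulAction.exists_smul_eq C P' Q
  refine ⟨(d : G) • P, fun e he => ?_, fun s hs => ?_, fun s hs hsW => ?_⟩
  · have h1 : (⟨e, hEC he⟩ : C) ∈ (Q : Subgroup C) := hQ (Subgroup.mem_subgroupOf.2 he)
    rw [← hd, Sylow.coe_subgroup_smul] at h1
    obtain ⟨a, ha, e'⟩ := h1
    rw [Sylow.coe_subgroup_smul]
    exact ⟨a, ha, congrArg Subtype.val e'⟩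
  · rw [Sylow.coe_subgroup_smul] at hs
    obtain ⟨a, ha, rfl⟩ := hs
    show Commute ((d : G) * a * (d : G)⁻¹) c.t
    have hdt : Commute (d : G) c.t := Subgroup.mem_centralizer_singleton_iff.1 d.2
    exact ((hdt.mul_left (hP a ha)).mul_left hdt.inv_left)
  · set S : Subgroup G := (((d : G) • P : Sylow 2 G) : Subgroup G) with hS
    have hES : c.E ≤ S := fun e he => by
      have h1 : (⟨e, hEC he⟩ : C) ∈ (Q : Subgroup C) := hQ (Subgroup.mem_subgroupOf.2 he)
      rw [← hd, Sylow.coe_subgroup_smul] at h1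
      obtain ⟨a, ha, e'⟩ := h1
      rw [hS, Sylow.coe_subgroup_smul]
      exact ⟨a, ha, congrArg Subtype.val e'⟩
    obtain ⟨n, hn⟩ := IsPGroup.iff_card.1 (((d : G) • P : Sylow 2 G).2.to_le (inf_le_left : S ⊓ c.φ.range ≤ S))
    have h8 : Nat.card (S ⊓ c.φ.range : Subgroup G) ≤ 8 := by
      have h1 := Subgroup.card_dvd_of_le (inf_le_right : S ⊓ c.φ.range ≤ c.φ.range)
      rw [c.card_W, hn] at h1
      have hn3 : n ≤ 3 := by
        by_contra h
        have := (pow_dvd_pow 2 (by omega : 4 ≤ n)).trans h1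
        norm_num at this
      rw [hn]; exact Nat.pow_le_pow_right (by norm_num) hn3
    have := Subgroup.eq_of_le_of_card_ge (le_inf hES c.E_le_W) (by rw [c.card_E]; exact h8)
    rw [this]; exact ⟨hs, hsW⟩

/-- The chosen Sylow 2-subgroup. -/
noncomputable def S : Sylow 2 G := c.exists_sylow.choose

theorem E_le_S : c.E ≤ c.S := c.exists_sylow.choose_spec.1

theorem S_comm {s : G} (hs : s ∈ (c.S : Subgroup G)) : Commute s c.t := c.exists_sylow.choose_spec.2.1 s hs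

theorem S_inter_W {s : G} (hs : s ∈ (c.S : Subgroup G)) (hW : s ∈ c.φ.range) : s ∈ c.E :=
  c.exists_sylow.choose_spec.2.2 s hs hW

theorem S_le_normalizer : (c.S : Subgroup G) ≤ Subgroup.normalizer (c.E : Set G) := fun s hs =>
  mem_normalizer_of fun e he =>
    c.S_inter_W (mul_mem (mul_mem hs (c.E_le_S he)) (inv_mem hs)) (c.W_conj (c.S_comm hs) e (c.E_le_W he))

theorem exists_nontrivial : ∃ k ∈ sd p5, k ≠ 1 ∧ k ≠ τK ∧ c.φ k ∈ c.X := by
  by_contra hcon
  push Not at hcon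
  have hle : c.φ.range ≤ Subgroup.zpowers c.t := by
    rw [c.range, Subgroup.closure_le]
    rintro x ⟨g, rfl, hx⟩
    have hX : g * c.t * g⁻¹ ∈ c.X := ⟨g, rfl⟩
    obtain ⟨k, hk⟩ := c.mem_W hX hx
    have hk2 : k * k = 1 := c.inj (by
      rw [map_mul, map_one, hk]
      exact inv_sq_one (c.orderOf_X hX))
    obtain ⟨d, hd⟩ := std5.invConj k hk2
    have h1 : d * k * d⁻¹ ≠ 1 := fun h => ne_one (c.orderOf_X hX) (by
      rw [← hk, conj_eq_one_iff.1 h, map_one])
    have hX' : c.φ (d * k * d⁻¹) ∈ c.X := by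
      rw [map_mul, map_mul, map_inv, hk]; exact c.conj_mem_X _ hX
    have h3 : d * k * d⁻¹ = τK := by
      by_contra h4
      exact hcon _ hd h1 h4 hX'
    have hkτ : k = τK := by
      calc k = d⁻¹ * (d * k * d⁻¹) * d := by group
        _ = d⁻¹ * (τK * d) := by rw [h3]; group
        _ = d⁻¹ * (d * τK) := by rw [show τK * d = d * τK from (std5.central d).symm]
        _ = τK := by group
    rw [hkτ, c.phi_tau] at hk
    show g * c.t * g⁻¹ ∈ Subgroup.zpowers c.t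
    rw [← hk]; exact Subgroup.mem_zpowers _
  have h := Subgroup.card_le_of_le hle
  rw [c.card_W, Nat.card_zpowers, c.orderOf_t] at h
  omega

/-- `E` is weakly closed in the Sylow subgroup. -/
theorem weaklyClosed {g : G} (h : ∀ e ∈ c.E, g * e * g⁻¹ ∈ (c.S : Subgroup G)) :
    ∀ e ∈ c.E, g * e * g⁻¹ ∈ c.E := by
  obtain ⟨k, hk, hk1, hkτ, hkX⟩ := c.exists_nontrivial
  let E' : Subgroup G := c.E.comap (MulAut.conj g).toMonoidHom
  have hX : ∀ e ∈ c.E, e ∈ c.X → e ∈ E' := fun e he heX =>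
    c.S_inter_W (h e he) (c.mem_W (c.conj_mem_X g heX) (c.S_comm (h e he)))
  have hk' : c.φ k ∈ E' := hX _ ⟨k, hk, rfl⟩ hkX
  have hkx : c.φ (xK * k * xK⁻¹) ∈ E' := hX _ ⟨_, std5.xconj k hk, rfl⟩ (by
    rw [map_mul, map_mul, map_inv]; exact c.conj_mem_X _ hkX)
  have hτ : c.φ τK ∈ E' := hX _ ⟨_, std5.tau.1, rfl⟩ (by rw [c.phi_tau]; exact c.t_mem_X)
  have h' := sd_gen k
  simp only [Bool.or_eq_true, Bool.not_eq_true', decide_eq_false_iff_not, decide_eq_true_eq, List.all_eq_true,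
    List.contains_iff_mem, List.mem_cons, List.not_mem_nil, or_false] at h'
  rcases h' with ((h' | h') | h') | h'
  · exact absurd hk h'
  · exact absurd h' hk1
  · exact absurd h' hkτ
  have hmem : ∀ a : K5, (a = 1 ∨ a = k ∨ a = xK * k * xK⁻¹ ∨ a = k * (xK * k * xK⁻¹) ∨ a = τK ∨ a = τK * k ∨
      a = τK * (xK * k * xK⁻¹) ∨ a = τK * (k * (xK * k * xK⁻¹))) → c.φ a ∈ E' := by
    intro a ha
    rcases ha with rfl | rfl | rfl | rfl | rfl | rfl | rfl | rfl
    · rw [map_one]; exact one_mem _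
    · exact hk'
    · exact hkx
    · rw [map_mul]; exact mul_mem hk' hkx
    · exact hτ
    · rw [map_mul]; exact mul_mem hτ hk'
    · rw [map_mul]; exact mul_mem hτ hkx
    · rw [map_mul, map_mul c.φ k]; exact mul_mem hτ (mul_mem hk' hkx)
  have e1 := hmem b1 (h' b1 (by simp))
  have e2 := hmem b2 (h' b2 (by simp))
  rintro e ⟨a, ha, rfl⟩
  have hl := sd_list a
  rw [decide_eq_true ha, eq_comm, List.contains_iff_mem] at hl
  simp only [List.mem_cons, List.not_mem_nil, or_false] at hl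
  show c.φ a ∈ E'
  rcases hl with rfl | rfl | rfl | rfl | rfl | rfl | rfl | rfl
  · rw [map_one]; exact one_mem _
  · exact e1
  · exact e2
  · rw [map_mul]; exact mul_mem e1 e2
  · exact hτ
  · rw [map_mul]; exact mul_mem hτ e1
  · rw [map_mul]; exact mul_mem hτ e2
  · rw [map_mul, map_mul c.φ b1]; exact mul_mem hτ (mul_mem e1 e2)

/-- Conjugate elements centralizing `E` are conjugate in its normalizer. -/
theorem fusion {a b g : G} (ha : ∀ e ∈ c.E, Commute a e) (hb : ∀ e ∈ c.E, Commute b e)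
    (h : g * a * g⁻¹ = b) : ∃ n ∈ Subgroup.normalizer (c.E : Set G), n * a * n⁻¹ = b := by
  haveI : Fact (Nat.Prime 2) := ⟨Nat.prime_two⟩
  set C := Subgroup.centralizer ({b} : Set G) with hC
  have hEC : c.E ≤ C := fun e he => Subgroup.mem_centralizer_singleton_iff.2 (hb e he).symm.eq
  let E₂ := c.E.map (MulAut.conj g).toMonoidHom
  have hE₂C : E₂ ≤ C := by
    rintro _ ⟨e, he, rfl⟩
    refine Subgroup.mem_centralizer_singleton_iff.2 ?_
    show g * e * g⁻¹ * b = b * (g * e * g⁻¹)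
    rw [← h]
    calc g * e * g⁻¹ * (g * a * g⁻¹) = g * (e * a) * g⁻¹ := by group
      _ = g * (a * e) * g⁻¹ := by rw [(ha e he).symm.eq]
      _ = _ := by group
  have h8 : ∀ {L : Subgroup G}, L ≤ C → Nat.card L = 8 → IsPGroup 2 (L.subgroupOf C) := fun {L} hL h8 =>
    IsPGroup.of_card (n := 3) (by rw [Nat.card_congr (Subgroup.subgroupOfEquivOfLe hL).toEquiv, h8]; norm_num)
  obtain ⟨P, hP⟩ := (h8 hEC c.card_E).exists_le_sylow
  obtain ⟨Q, hQ⟩ := (h8 hE₂C (by
    rw [Subgroup.card_map_of_injective (MulEquiv.injective _), c.card_E])).exists_le_sylow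
  obtain ⟨d, hd⟩ := MulAction.exists_smul_eq C Q P
  have hP2 : IsPGroup 2 ((P : Subgroup C).map C.subtype) := P.2.map _
  obtain ⟨R, hR⟩ := hP2.exists_le_sylow
  obtain ⟨r, hr⟩ := MulAction.exists_smul_eq G R c.S
  have hin : ∀ p : C, p ∈ (P : Subgroup C) → r * p * r⁻¹ ∈ (c.S : Subgroup G) := fun p hp => by
    rw [← hr, Sylow.coe_subgroup_smul]
    exact ⟨p, hR ⟨p, hp, rfl⟩, rfl⟩
  have h1 : ∀ e ∈ c.E, r * e * r⁻¹ ∈ c.E := c.weaklyClosed fun e he =>
    hin ⟨e, hEC he⟩ (hP (Subgroup.mem_subgroupOf.2 he))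
  have h2 : ∀ e ∈ c.E, r * d * g * e * (r * d * g)⁻¹ ∈ c.E := c.weaklyClosed fun e he => by
    have hm : (⟨g * e * g⁻¹, hE₂C ⟨e, he, rfl⟩⟩ : C) ∈ (Q : Subgroup C) :=
      hQ (Subgroup.mem_subgroupOf.2 ⟨e, he, rfl⟩)
    have hm' : d * ⟨g * e * g⁻¹, hE₂C ⟨e, he, rfl⟩⟩ * d⁻¹ ∈ (P : Subgroup C) := by
      rw [← hd, Sylow.coe_subgroup_smul]; exact ⟨_, hm, rfl⟩
    have := hin _ hm'
    simpa only [Subgroup.coe_mul, Subgroup.coe_inv, mul_inv_rev, mul_assoc] using this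
  refine ⟨r⁻¹ * (r * d * g), mul_mem (inv_mem (mem_normalizer_of h1)) (mem_normalizer_of h2), ?_⟩
  have hdb : (d : G) * b = b * d := Subgroup.mem_centralizer_singleton_iff.1 d.2
  calc r⁻¹ * (r * d * g) * a * (r⁻¹ * (r * d * g))⁻¹ = (d : G) * (g * a * g⁻¹) * (d : G)⁻¹ := by group
    _ = _ := by rw [h, hdb, mul_inv_cancel_right]

theorem commute_E_of_mem {a : G} (ha : a ∈ c.E) : ∀ e ∈ c.E, Commute a e := fun _ he => c.comm_E ha he

/-- The normalizer of `E` is transitive on its involutions. -/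
theorem transitive : ∀ e ∈ c.E, e ≠ 1 → ∃ n ∈ Subgroup.normalizer (c.E : Set G), n * c.t * n⁻¹ = e := by
  classical
  haveI : Fact (Nat.Prime 2) := ⟨Nat.prime_two⟩
  set N := Subgroup.normalizer (c.E : Set G) with hN
  let O := ((sd p5).erase 1).filter fun k => ∃ n ∈ N, n * c.t * n⁻¹ = c.φ k
  have hO : ∀ k, k ∈ O ↔ k ≠ 1 ∧ k ∈ sd p5 ∧ ∃ n ∈ N, n * c.t * n⁻¹ = c.φ k := fun k => by
    simp [O, and_assoc]
  have hτ : τK ∈ O := (hO _).2 ⟨std5.tau.2, std5.tau.1, 1, one_mem _, by simp [c.phi_tau]⟩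
  have hmod : O.card % 3 = 1 := by
    have := std5.orbits O (Finset.mem_powerset.2 (Finset.filter_subset _ _)) fun k hk => by
      obtain ⟨h1, h2, n, hn, e⟩ := (hO k).1 hk
      refine (hO _).2 ⟨fun h => h1 (conj_eq_one_iff.1 h), std5.xconj k h2, c.φ xK * n,
        mul_mem c.xE_normalizer hn, ?_⟩
      show c.φ xK * n * c.t * (c.φ xK * n)⁻¹ = c.φ (xK * k * xK⁻¹)
      rw [map_mul, map_mul, map_inv, ← e]; group
    rw [if_pos (show tau 5 ∈ O from hτ)] at this
    exact this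
  have hle : O.card ≤ 7 := (Finset.card_filter_le _ _).trans (by
    rw [Finset.card_erase_of_mem std5.one, card_sd])
  have hone : 1 < O.card := by
    obtain ⟨k, hk, hk1, hkτ, g, hg⟩ := c.exists_nontrivial
    obtain ⟨n, hn, e⟩ := c.fusion (c.commute_E_of_mem c.t_mem_E) (c.commute_E_of_mem ⟨k, hk, rfl⟩) hg
    exact Finset.one_lt_card.2 ⟨τK, hτ, k, (hO _).2 ⟨hk1, hk, n, hn, e⟩, Ne.symm hkτ⟩
  let act : MulAction N G := MulAction.compHom G ((ConjAct.toConjAct.toMonoidHom).comp N.subtype)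
  have hs : ∀ (n : N) (g : G), act.smul n g = n * g * (n : G)⁻¹ := fun n g => ConjAct.smul_def _ _
  have horb : MulAction.orbit N c.t = c.φ '' (O : Set K5) := by
    ext g
    simp only [MulAction.mem_orbit_iff, Set.mem_image, Finset.mem_coe]
    constructor
    · rintro ⟨n, rfl⟩
      obtain ⟨k, hk, e⟩ : (n : G) * c.t * (n : G)⁻¹ ∈ c.E :=
        (Subgroup.mem_normalizer_iff.1 n.2 _).1 c.t_mem_E
      refine ⟨k, (hO k).2 ⟨fun h => ?_, hk, n, n.2, e.symm⟩, e.trans (hs n c.t).symm⟩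
      rw [h, map_one, eq_comm, conj_eq_one_iff] at e
      exact ne_one c.orderOf_t e
    · rintro ⟨k, hk, rfl⟩
      obtain ⟨-, -, n, hn, e⟩ := (hO k).1 hk
      exact ⟨⟨n, hn⟩, (hs _ _).trans e⟩
  have hodd : Odd O.card := by
    have h1 : (MulAction.stabilizer N c.t).index = O.card := by
      rw [MulAction.index_stabilizer, horb, Set.ncard_image_of_injective _ c.inj, Set.ncard_coe_finset]
    have h2 : (c.S : Subgroup G).subgroupOf N ≤ MulAction.stabilizer N c.t := fun n hn => by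
      rw [MulAction.mem_stabilizer_iff]
      exact (hs n c.t).trans (mul_inv_eq_iff_eq_mul.2 (c.S_comm hn).eq)
    have h3 : O.card ∣ ((c.S : Subgroup G).subgroupOf N).index := h1 ▸ Subgroup.index_dvd_of_le h2
    have h4 : ((c.S : Subgroup G).subgroupOf N).index ∣ (c.S : Subgroup G).index :=
      Subgroup.relIndex_dvd_index_of_le c.S_le_normalizer
    rw [← Nat.not_even_iff_odd, even_iff_two_dvd]
    exact fun h => c.S.not_dvd_index (h.trans (h3.trans h4))
  have h7 : O.card = 7 := by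
    obtain ⟨m, hm⟩ := hodd
    omega
  have hall : O = (sd p5).erase 1 := Finset.eq_of_subset_of_card_le (Finset.filter_subset _ _) (by
    rw [Finset.card_erase_of_mem std5.one, card_sd, h7])
  rintro e ⟨k, hk, rfl⟩ he1
  have hk' : k ∈ O := hall ▸ Finset.mem_erase.2 ⟨fun h => he1 (by rw [h, map_one]), hk⟩
  exact ((hO k).1 hk').2.2

theorem E_mem_X {e : G} (he : e ∈ c.E) (h1 : e ≠ 1) : e ∈ c.X := by
  obtain ⟨n, -, hn⟩ := c.transitive e he h1
  exact ⟨n, hn⟩

/-- Every involution of the weak closure is conjugate to `t`. -/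
theorem involution_W {k : K5} (hk : k * k = 1) (hk1 : k ≠ 1) : c.φ k ∈ c.X := by
  obtain ⟨d, hd⟩ := std5.invConj k hk
  have := c.conj_mem_X (c.φ d)⁻¹ (c.E_mem_X ⟨_, hd, rfl⟩ (fun h => hk1 (by
    rw [← map_one c.φ] at h
    exact conj_eq_one_iff.1 (c.inj h))))
  rwa [map_mul, map_mul, map_inv, inv_inv, show (c.φ d)⁻¹ * (c.φ d * c.φ k * (c.φ d)⁻¹) * c.φ d = c.φ k by group] at this

end WC

end Cfsg.Agent.J1Weak
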