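import Cfsg.Agent.Lib.J1Weak.Basic

/-!
# The centralizer of `t` is `W × H` with `H` centralizing the neighbouring weak closures

Averaging over the normalizer action of odd order on `E` finds, in each coset of `E` in `C(E)`, an element fixed by
the elements of order three of all seven weak closures.
-/

set_option autoImplicit false
set_option linter.all false
set_option maxRecDepth 100000
set_option synthInstance.maxHeartbeats 200000

namespace Cfsg.Agent.J1Weak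

open Cfsg.Agent.Involutions.Basic Cfsg.Agent.CentralTwoAlt

theorem V_orbit : ∀ k : K5, (!decide (k ∈ sd p5) || !decide (k.1 = 1) || decide (k = 1) ||
    ([1, xK, xK * xK] : List K5).any fun p => decide (p * b1 * p⁻¹ = k)) = true := by
  decide +kernel

theorem V_gen : ∀ k : K5, (!decide (k ∈ sd p5) || !decide (k.1 = 1) || decide (k = 1) ||
    ([b1, b2] : List K5).any fun w => decide (w ≠ k) &&
      ([b1, b2] : List K5).all fun a => ([1, k, w, k * w] : List K5).contains a) = true := by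
  decide +kernel

theorem V_three : ∀ k w v : { a : K5 // a ∈ sd p5 },
    (!decide (k.1.1 = 1) || !decide (w.1.1 = 1) || !decide (v.1.1 = 1) || decide (k.1 = 1) || decide (w.1 = 1) ||
      decide (v.1 = 1) || decide (v.1 = k.1) || decide (v.1 = w.1) || decide (w.1 = k.1) ||
      decide (v.1 = k.1 * w.1)) = true := by
  decide +kernel

theorem norm_two : ∀ k : K5, (!decide (k * k * (k * k) * (k * k * (k * k)) = 1) ||
    ([b1, b2] : List K5).any (fun a => !decide (k * a * k⁻¹ ∈ sd p5)) || decide (k ∈ sd p5)) = true := by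
  decide +kernel

namespace WC

universe u

variable {G : Type u} [Group G] [Finite G] (c : WC G)

/-- The centralizer of the weak closure. -/
def R : Subgroup G := Subgroup.centralizer (c.φ.range : Set G)

theorem mem_R {g : G} : g ∈ c.R ↔ ∀ k, Commute g (c.φ k) :=
  ⟨fun h k => (h _ ⟨k, rfl⟩).symm, by rintro h _ ⟨k, rfl⟩; exact (h k).symm.eq⟩

theorem t_mem_R : c.t ∈ c.R := c.mem_R.2 fun k => (c.W_comm k).symm

theorem E_of_gens {g : G} (ht : Commute g c.t) (h1 : Commute g (c.φ b1)) (h2 : Commute g (c.φ b2)) :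
    ∀ e ∈ c.E, Commute g e := by
  rintro e ⟨a, ha, rfl⟩
  have hl := sd_list a
  rw [decide_eq_true ha, eq_comm, List.contains_iff_mem] at hl
  simp only [List.mem_cons, List.not_mem_nil, or_false] at hl
  rw [← c.phi_tau] at ht
  rcases hl with rfl | rfl | rfl | rfl | rfl | rfl | rfl | rfl
  · rw [map_one]; exact Commute.one_right _
  · exact h1
  · exact h2
  · rw [map_mul]; exact h1.mul_right h2
  · exact ht
  · rw [map_mul]; exact ht.mul_right h1
  · rw [map_mul]; exact ht.mul_right h2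
  · rw [map_mul, map_mul c.φ b1]; exact ht.mul_right (h1.mul_right h2)

theorem exists_image {g : G} (hg : Commute g c.t) (k : K5) : ∃ k', c.φ k' = g * c.φ k * g⁻¹ :=
  c.W_conj hg _ ⟨k, rfl⟩

theorem fst_image {g : G} (hg : Commute g c.t) {a a' : K5} (ha : a ∈ sd p5)
    (h : g * c.φ a * g⁻¹ = c.φ a') : a'.1 = a.1 := by
  have hb : ∀ v ∈ ([b1, b2] : List K5), ∀ v' : K5, g * c.φ v * g⁻¹ = c.φ v' → v'.1 = 1 := by
    intro v hv v' hv'
    have hf := four_commutators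
    simp only [List.all_eq_true, List.any_eq_true, decide_eq_true_eq] at hf
    obtain ⟨w, -, hw⟩ := hf v hv
    obtain ⟨α, hα⟩ := c.exists_image hg xK
    obtain ⟨β, hβ⟩ := c.exists_image hg w
    have : v' = α * β * α⁻¹ * β⁻¹ := c.inj (by
      rw [← hv', ← hw]; simp only [map_mul, map_inv, hα, hβ]; group)
    rw [this]
    simp [Prod.fst_mul, mul_comm α.1 β.1]
  have hτ : g * c.φ τK * g⁻¹ = c.φ τK := by rw [c.phi_tau]; exact mul_inv_eq_iff_eq_mul.2 hg.eq
  obtain ⟨b1', e1⟩ := c.exists_image hg b1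
  obtain ⟨b2', e2⟩ := c.exists_image hg b2
  have f1 := hb b1 (by simp) b1' e1.symm
  have f2 := hb b2 (by simp) b2' e2.symm
  let ψ : K5 →* G := (MulAut.conj g).toMonoidHom.comp c.φ
  have hl := sd_list a
  rw [decide_eq_true ha, eq_comm, List.contains_iff_mem] at hl
  simp only [List.mem_cons, List.not_mem_nil, or_false] at hl
  have h' : ψ a = c.φ a' := h
  have p1 : ψ b1 = c.φ b1' := e1.symm
  have p2 : ψ b2 = c.φ b2' := e2.symm
  have pτ : ψ τK = c.φ τK := hτ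
  have hb1 : (b1 : K5).1 = 1 := rfl
  have hb2 : (b2 : K5).1 = 1 := rfl
  rcases hl with rfl | rfl | rfl | rfl | rfl | rfl | rfl | rfl <;>
    simp only [map_one, map_mul, p1, p2, pτ] at h' <;>
    (try simp only [← map_mul] at h')
  · rw [← c.inj (h'.symm.trans (map_one c.φ).symm)]
  all_goals (rw [← c.inj h']; try simp [Prod.fst_mul, f1, f2, hb1, hb2])

theorem commute_E_of_fix {g : G} (hg : Commute g c.t) (hgE : ∀ e ∈ c.E, g * e * g⁻¹ ∈ c.E)
    {k : K5} (hk : k ∈ sd p5) (hk0 : k.1 = 1) (hk1 : k ≠ 1) (hfix : Commute g (c.φ k)) :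
    ∀ e ∈ c.E, Commute g e := by
  have hgen := V_gen k
  simp only [Bool.or_eq_true, Bool.not_eq_true', decide_eq_false_iff_not, decide_eq_true_eq, List.any_eq_true,
    Bool.and_eq_true, List.all_eq_true, List.contains_iff_mem, List.mem_cons, List.not_mem_nil, or_false] at hgen
  rcases hgen with ((h | h) | h) | ⟨w, hw, hwk, hall⟩
  · exact absurd hk h
  · exact absurd hk0 h
  · exact absurd h hk1
  have hw' : w ∈ sd p5 ∧ w.1 = 1 ∧ w ≠ 1 := by
    rcases hw with rfl | rfl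
    · exact ⟨by decide +kernel, rfl, x_cycle.2.2.2.1⟩
    · exact ⟨by decide +kernel, rfl, x_cycle.2.2.2.2.1⟩
  obtain ⟨w', hw's, hw'e⟩ : g * c.φ w * g⁻¹ ∈ c.E := hgE _ ⟨w, hw'.1, rfl⟩
  by_cases hfixw : w' = w
  · subst hfixw
    have hcw : Commute g (c.φ w') := mul_inv_eq_iff_eq_mul.1 hw'e.symm
    have hmem : ∀ a, (a = 1 ∨ a = k ∨ a = w' ∨ a = k * w') → Commute g (c.φ a) := by
      rintro a (rfl | rfl | rfl | rfl)
      · rw [map_one]; exact Commute.one_right _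
      · exact hfix
      · exact hcw
      · rw [map_mul]; exact hfix.mul_right hcw
    exact c.E_of_gens hg (hmem _ (hall b1 (Or.inl rfl))) (hmem _ (hall b2 (Or.inr rfl)))
  exfalso
  have hw'1 : w'.1 = 1 := (c.fst_image hg hw'.1 hw'e.symm).trans hw'.2.1
  have hw'k : w' ≠ k := fun h => hwk (c.inj (by
    rw [h, ← mul_inv_eq_iff_eq_mul.2 hfix.eq] at hw'e
    exact (mul_left_cancel (mul_right_cancel hw'e)).symm))
  have hw'ne : w' ≠ 1 := fun h => hw'.2.2 (c.inj (by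
    rw [h, map_one, eq_comm, conj_eq_one_iff] at hw'e
    rw [hw'e, map_one]))
  have h3 := V_three ⟨k, hk⟩ ⟨w, hw'.1⟩ ⟨w', hw's⟩
  simp only [hk0, hw'.2.1, hw'1, hk1, hw'.2.2, hw'ne, hw'k, hfixw, hwk, decide_true, decide_false, Bool.not_true,
    Bool.or_false, Bool.false_or, decide_eq_true_eq] at h3
  obtain ⟨n, hn, hnt⟩ := c.transitive (c.φ k) ⟨k, hk, rfl⟩ (fun h => hk1 (c.inj (h.trans (map_one _).symm)))
  have hn' : ∀ e ∈ c.E, n⁻¹ * e * n ∈ c.E := fun e he => by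
    have := (Subgroup.mem_normalizer_iff.1 (inv_mem hn) e).1 he
    rwa [inv_inv] at this
  obtain ⟨a, ha, hae⟩ := hn' _ ⟨w, hw'.1, rfl⟩
  have hg' : Commute (n⁻¹ * g * n) c.t := by
    show n⁻¹ * g * n * c.t = c.t * (n⁻¹ * g * n)
    rw [← hnt] at hfix
    calc n⁻¹ * g * n * c.t = n⁻¹ * (g * (n * c.t * n⁻¹)) * n := by group
      _ = n⁻¹ * (n * c.t * n⁻¹ * g) * n := by rw [hfix.eq]
      _ = _ := by group
  have himg : n⁻¹ * g * n * c.φ a * (n⁻¹ * g * n)⁻¹ = c.φ (τK * a) := by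
    rw [map_mul, c.phi_tau, hae]
    calc n⁻¹ * g * n * (n⁻¹ * c.φ w * n) * (n⁻¹ * g * n)⁻¹ = n⁻¹ * (g * c.φ w * g⁻¹) * n := by group
      _ = n⁻¹ * (n * c.t * n⁻¹ * c.φ w) * n := by rw [← hw'e, h3, map_mul, hnt]
      _ = _ := by group
  have := c.fst_image hg' ha himg
  simp [Prod.fst_mul, τK, tau] at this

/-- Elements commuting with `t` are products of elements of the weak closure and of its centralizer. -/
theorem decomp_R {g : G} (hg : Commute g c.t) : ∃ k : K5, (c.φ k)⁻¹ * g ∈ c.R := by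
  classical
  haveI : Fact (Nat.Prime 2) := ⟨Nat.prime_two⟩
  suffices h : ∃ k : K5, ∀ j, Commute ((c.φ k)⁻¹ * g) (c.φ j) by
    obtain ⟨k, hk⟩ := h; exact ⟨k, c.mem_R.2 hk⟩
  -- move `E` back
  have step1 : ∃ d : K5, ∀ e ∈ c.E, (c.φ d)⁻¹ * g * e * ((c.φ d)⁻¹ * g)⁻¹ ∈ c.E := by
    have hf : (Nat.card K5).factorization 2 = 3 := by
      rw [model_card.2]
      have h1 := (Nat.prime_two.pow_dvd_iff_le_factorization (k := 3) (n := 120) (by norm_num)).1 (by norm_num)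
      have h2 := mt (Nat.prime_two.pow_dvd_iff_le_factorization (k := 4) (n := 120) (by norm_num)).2 (by norm_num)
      omega
    have hcard : ∀ L : Subgroup G, L ≤ c.φ.range → Nat.card (L.comap c.φ) = Nat.card L := fun L hL => by
      exact (Subgroup.card_map_of_injective (f := c.φ) c.inj).symm.trans (by rw [Subgroup.map_comap_eq_self hL])
    let E' := c.E.map (MulAut.conj g).toMonoidHom
    have hE' : E' ≤ c.φ.range := by
      rintro _ ⟨e, he, rfl⟩
      exact c.W_conj hg e (c.E_le_W he)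
    let A : Sylow 2 K5 := Sylow.ofCard (c.E.comap c.φ) (by rw [hcard _ c.E_le_W, c.card_E, hf]; norm_num)
    let B : Sylow 2 K5 := Sylow.ofCard (E'.comap c.φ) (by
      rw [hcard _ hE', Subgroup.card_map_of_injective (MulEquiv.injective _), c.card_E, hf]; norm_num)
    obtain ⟨d, hd⟩ := MulAction.exists_smul_eq K5 A B
    refine ⟨d, fun e he => ?_⟩
    obtain ⟨a, ha⟩ := hE' ⟨e, he, rfl⟩
    have h1 : a ∈ (B : Subgroup K5) := by
      show c.φ a ∈ E'
      rw [ha]; exact ⟨e, he, rfl⟩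
    rw [← hd, Sylow.coe_subgroup_smul] at h1
    obtain ⟨b, hb, hab⟩ := h1
    change d * b * d⁻¹ = a at hab
    change c.φ a = g * e * g⁻¹ at ha
    show (c.φ d)⁻¹ * g * e * ((c.φ d)⁻¹ * g)⁻¹ ∈ c.E
    rw [show (c.φ d)⁻¹ * g * e * ((c.φ d)⁻¹ * g)⁻¹ = (c.φ d)⁻¹ * (g * e * g⁻¹) * c.φ d by group, ← ha, ← hab,
      map_mul, map_mul, map_inv,
      show (c.φ d)⁻¹ * (c.φ d * c.φ b * (c.φ d)⁻¹) * c.φ d = c.φ b by group]
    exact hb
  obtain ⟨d, hd⟩ := step1
  set g1 := (c.φ d)⁻¹ * g with hg1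
  have hg1t : Commute g1 c.t := (c.W_comm d).inv_left.mul_left hg
  -- centralize `E`
  obtain ⟨p, hp⟩ : ∃ p : K5, ∀ e ∈ c.E, Commute ((c.φ p)⁻¹ * g1) e := by
    have hb : b1 ∈ sd p5 := by decide +kernel
    obtain ⟨a, ha, hae⟩ := hd _ ⟨b1, hb, rfl⟩
    have ha0 : a.1 = 1 := c.fst_image hg1t hb hae.symm
    have ha1 : a ≠ 1 := fun h => x_cycle.2.2.2.1 (c.inj (by
      rw [h, map_one, eq_comm, conj_eq_one_iff] at hae
      rw [hae, map_one]))
    have ho := V_orbit a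
    simp only [Bool.or_eq_true, Bool.not_eq_true', decide_eq_false_iff_not, decide_eq_true_eq,
      List.any_eq_true, List.mem_cons, List.not_mem_nil, or_false] at ho
    rcases ho with ((h | h) | h) | ⟨p, hp, hpb⟩
    · exact absurd ha h
    · exact absurd ha0 h
    · exact absurd h ha1
    refine ⟨p, ?_⟩
    have hpN : ∀ q : K5, (q = 1 ∨ q = xK ∨ q = xK * xK) → ∀ e ∈ c.E, c.φ q * e * (c.φ q)⁻¹ ∈ c.E := by
      rintro q (rfl | rfl | rfl) e he
      · simpa using he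
      · exact c.phi_x_normalizes he
      · rw [map_mul, show c.φ xK * c.φ xK * e * (c.φ xK * c.φ xK)⁻¹ =
          c.φ xK * (c.φ xK * e * (c.φ xK)⁻¹) * (c.φ xK)⁻¹ by group]
        exact c.phi_x_normalizes (c.phi_x_normalizes he)
    refine c.commute_E_of_fix ((c.W_comm p).inv_left.mul_left hg1t) (fun e he => ?_) hb rfl x_cycle.2.2.2.1 ?_
    · rw [show (c.φ p)⁻¹ * g1 * e * ((c.φ p)⁻¹ * g1)⁻¹ = (c.φ p)⁻¹ * (g1 * e * g1⁻¹) * c.φ p by group]
      have hpn : c.φ p ∈ Subgroup.normalizer (c.E : Set G) := mem_normalizer_of (hpN p hp)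
      have := (Subgroup.mem_normalizer_iff.1 (inv_mem hpn) _).1 (hd e he)
      rwa [inv_inv] at this
    · show (c.φ p)⁻¹ * g1 * c.φ b1 = c.φ b1 * ((c.φ p)⁻¹ * g1)
      calc (c.φ p)⁻¹ * g1 * c.φ b1 = (c.φ p)⁻¹ * (g1 * c.φ b1 * g1⁻¹) * g1 := by group
        _ = (c.φ p)⁻¹ * c.φ (p * b1 * p⁻¹) * g1 := by rw [hpb, hae]
        _ = _ := by rw [map_mul, map_mul, map_inv]; group
  set g2 := (c.φ p)⁻¹ * g1 with hg2
  have hg2t : Commute g2 c.t := (c.W_comm p).inv_left.mul_left hg1t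
  have hb1E : c.φ b1 ∈ c.E := ⟨b1, by decide +kernel, rfl⟩
  have hb2E : c.φ b2 ∈ c.E := ⟨b2, by decide +kernel, rfl⟩
  -- fix the element of order three
  obtain ⟨y, hy⟩ := c.exists_image hg2t xK
  have hlike : ([1, b1, b2, b1 * b2] : List K5).any (fun v => decide (v * xK * v⁻¹ = y)) = true := by
    refine like_x y ?_
    simp only [Bool.and_eq_true, decide_eq_true_eq]
    refine ⟨⟨c.inj ?_, c.inj ?_⟩, c.inj ?_⟩
    · rw [map_mul, map_mul, map_one, hy,
        show g2 * c.φ xK * g2⁻¹ * (g2 * c.φ xK * g2⁻¹) * (g2 * c.φ xK * g2⁻¹) =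
          g2 * (c.φ xK * c.φ xK * c.φ xK) * g2⁻¹ by group, ← map_mul, ← map_mul,
        show xK * xK * xK = 1 from std5.hx.1, map_one]
      group
    all_goals
      simp only [map_mul, map_inv, hy]
    · have e1 := (hp _ hb1E).eq
      have e2 := (hp _ (c.phi_x_normalizes hb1E)).eq
      calc g2 * c.φ xK * g2⁻¹ * c.φ b1 * (g2 * c.φ xK * g2⁻¹)⁻¹
          = g2 * c.φ xK * g2⁻¹ * (c.φ b1 * g2) * (c.φ xK)⁻¹ * g2⁻¹ := by group
        _ = g2 * (c.φ xK * c.φ b1 * (c.φ xK)⁻¹) * g2⁻¹ := by rw [← e1]; group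
        _ = _ := by rw [e2]; group
    · have e1 := (hp _ hb2E).eq
      have e2 := (hp _ (c.phi_x_normalizes hb2E)).eq
      calc g2 * c.φ xK * g2⁻¹ * c.φ b2 * (g2 * c.φ xK * g2⁻¹)⁻¹
          = g2 * c.φ xK * g2⁻¹ * (c.φ b2 * g2) * (c.φ xK)⁻¹ * g2⁻¹ := by group
        _ = g2 * (c.φ xK * c.φ b2 * (c.φ xK)⁻¹) * g2⁻¹ := by rw [← e1]; group
        _ = _ := by rw [e2]; group
  simp only [List.any_eq_true, decide_eq_true_eq, List.mem_cons, List.not_mem_nil, or_false] at hlike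
  obtain ⟨v, hv, hvy⟩ := hlike
  have hvE : c.φ v ∈ c.E := by
    rcases hv with rfl | rfl | rfl | rfl
    · rw [map_one]; exact one_mem _
    · exact hb1E
    · exact hb2E
    · rw [map_mul]; exact mul_mem hb1E hb2E
  set g3 := (c.φ v)⁻¹ * g2 with hg3
  have hg3E : ∀ e ∈ c.E, Commute g3 e := fun e he => (c.comm_E hvE he).inv_left.mul_left (hp e he)
  have hg3t : Commute g3 c.t := hg3E _ c.t_mem_E
  have hg3x : g3 * c.φ xK * g3⁻¹ = c.φ xK := by
    rw [hg3, show (c.φ v)⁻¹ * g2 * c.φ xK * ((c.φ v)⁻¹ * g2)⁻¹ = (c.φ v)⁻¹ * (g2 * c.φ xK * g2⁻¹) * c.φ v by group,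
      ← hy, ← hvy, map_mul, map_mul, map_inv]
    group
  -- the last generator is then fixed
  obtain ⟨z, hz⟩ := c.exists_image hg3t y0
  have hz0 : z = y0 := by
    have h0 := y0_unique y0
    simp only [decide_true, Bool.and_eq_true, decide_eq_true_eq] at h0
    obtain ⟨⟨⟨k1, k2⟩, k3⟩, k4⟩ := h0
    have hψ : ∀ a : K5, g3 * c.φ a * g3⁻¹ = MulAut.conj g3 (c.φ a) := fun a => rfl
    have hfix : ∀ a : K5, Commute g3 (c.φ a) → MulAut.conj g3 (c.φ a) = c.φ a := fun a h =>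
      mul_inv_eq_iff_eq_mul.2 h.eq
    have p1 := hfix b1 (hg3E _ hb1E)
    have p2 := hfix b2 (hg3E _ hb2E)
    have px : MulAut.conj g3 (c.φ xK) = c.φ xK := hg3x
    have pz : MulAut.conj g3 (c.φ y0) = c.φ z := hz.symm
    have hz' := y0_unique z
    rw [eq_comm] at hz'
    refine of_decide_eq_true (hz'.trans ?_)
    simp only [Bool.and_eq_true, decide_eq_true_eq]
    refine ⟨⟨⟨?_, ?_⟩, ?_⟩, ?_⟩ <;> apply c.inj
    · have := congrArg (fun a => MulAut.conj g3 (c.φ a)) k1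
      simp only [map_mul, map_one, pz] at this ⊢
      exact this
    · have := congrArg (fun a => MulAut.conj g3 (c.φ a)) k2
      simp only [map_mul, map_one, pz, p1] at this ⊢
      exact this
    · have := congrArg (fun a => MulAut.conj g3 (c.φ a)) k3
      simp only [map_mul, map_one, pz, px] at this ⊢
      exact this
    · have := congrArg (fun a => MulAut.conj g3 (c.φ a)) k4
      simp only [map_mul, map_one, pz, p2] at this ⊢
      exact this
  have hext : (MulAut.conj g3).toMonoidHom.comp c.φ = c.φ := hom_ext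
    (mul_inv_eq_iff_eq_mul.2 (hg3E _ hb1E).eq) (mul_inv_eq_iff_eq_mul.2 (hg3E _ hb2E).eq)
    hg3x (by show g3 * c.φ y0 * g3⁻¹ = c.φ y0; rw [← hz, hz0])
    (by show g3 * c.φ τK * g3⁻¹ = c.φ τK; rw [c.phi_tau]; exact mul_inv_eq_iff_eq_mul.2 hg3t.eq)
  refine ⟨d * p * v, fun j => ?_⟩
  have hj : g3 * c.φ j * g3⁻¹ = c.φ j := DFunLike.congr_fun hext j
  rw [show (c.φ (d * p * v))⁻¹ * g = g3 by rw [map_mul, map_mul, hg3, hg2, hg1]; group]
  exact mul_inv_eq_iff_eq_mul.1 hj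

theorem W_R {k : K5} (h : c.φ k ∈ c.R) : k = 1 ∨ k = τK := by
  have hc := center_K k
  simp only [Bool.or_eq_true, decide_eq_true_eq, List.any_eq_true, Bool.not_eq_true', decide_eq_false_iff_not] at hc
  rcases hc with (h' | h') | ⟨g, -, hg⟩
  · exact Or.inl h'
  · exact Or.inr h'
  · exact absurd (c.inj (by rw [map_mul, map_mul]; exact (c.mem_R.1 h g).eq)) hg

/-- The centralizer of `E`. -/
def CE : Subgroup G := Subgroup.centralizer (c.E : Set G)

theorem mem_CE {g : G} : g ∈ c.CE ↔ ∀ e ∈ c.E, Commute g e :=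
  ⟨fun h e he => (h e he).symm, fun h e he => (h e he).symm.eq⟩

/-- The normalizer of `E`. -/
def NE : Subgroup G := Subgroup.normalizer (c.E : Set G)

theorem NE_E {n e : G} (hn : n ∈ c.NE) (he : e ∈ c.E) : n * e * n⁻¹ ∈ c.E :=
  (Subgroup.mem_normalizer_iff.1 hn e).1 he

theorem NE_E' {n e : G} (hn : n ∈ c.NE) (he : e ∈ c.E) : n⁻¹ * e * n ∈ c.E := by
  have := c.NE_E (inv_mem hn) he
  rwa [inv_inv] at this

theorem CE_conj {n g : G} (hn : n ∈ c.NE) (hg : g ∈ c.CE) : n⁻¹ * g * n ∈ c.CE := by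
  refine c.mem_CE.2 fun e he => ?_
  have := c.mem_CE.1 hg _ (c.NE_E hn he)
  show n⁻¹ * g * n * e = e * (n⁻¹ * g * n)
  calc n⁻¹ * g * n * e = n⁻¹ * (g * (n * e * n⁻¹)) * n := by group
    _ = n⁻¹ * (n * e * n⁻¹ * g) * n := by rw [this.eq]
    _ = _ := by group

theorem CE_decomp {g : G} (hg : g ∈ c.CE) : ∃ e ∈ c.E, e⁻¹ * g ∈ c.R := by
  obtain ⟨k, hk⟩ := c.decomp_R (c.mem_CE.1 hg _ c.t_mem_E)
  refine ⟨c.φ k, ⟨k, std5.self k fun a ha => c.inj ?_, rfl⟩, hk⟩
  rw [map_mul, map_mul]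
  have h1 := c.mem_CE.1 hg _ ⟨a, ha, rfl⟩
  have h2 := c.mem_R.1 hk a
  have h3 : Commute (g * ((c.φ k)⁻¹ * g)⁻¹) (c.φ a) := h1.mul_left h2.inv_left
  rwa [show g * ((c.φ k)⁻¹ * g)⁻¹ = c.φ k by group] at h3

theorem S_le_CE : (c.S : Subgroup G) ≤ c.CE := by
  intro s hs
  obtain ⟨k, hk⟩ := c.decomp_R (c.S_comm hs)
  set r := (c.φ k)⁻¹ * s with hr
  have hrs : s = c.φ k * r := by rw [hr]; group
  have hk8 : k * k * (k * k) * (k * k * (k * k)) = 1 := by
    obtain ⟨n, hn⟩ := c.S.2 ⟨s, hs⟩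
    have hn' : s ^ 2 ^ n = 1 := congrArg Subtype.val hn
    rw [hrs, (c.mem_R.1 hk k).symm.mul_pow] at hn'
    have hpow : c.φ (k ^ 2 ^ n) ∈ c.R := by
      rw [map_pow, eq_inv_of_mul_eq_one_left hn']
      exact inv_mem (pow_mem hk _)
    have h2 : k ^ 2 ^ (n + 1) = 1 := by
      rw [pow_succ, pow_mul, sq]
      rcases c.W_R hpow with h | h <;> rw [h]
      · exact one_mul _
      · exact (std5.mul _ std5.tau.1 _ std5.tau.1).2.2
    obtain ⟨i, -, hi⟩ := (Nat.dvd_prime_pow Nat.prime_two).1 (orderOf_dvd_of_pow_eq_one h2)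
    have h120 : orderOf k ∣ 120 := model_card.2 ▸ orderOf_dvd_natCard k
    rw [hi] at h120
    have hi3 : i ≤ 3 := by
      by_contra h
      have := (pow_dvd_pow 2 (by omega : 4 ≤ i)).trans h120
      norm_num at this
    have h8 : k ^ 8 = 1 := orderOf_dvd_iff_pow_eq_one.1 (hi ▸ (pow_dvd_pow 2 hi3 : 2 ^ i ∣ 2 ^ 3))
    rw [← h8]; simp only [pow_succ, pow_zero, one_mul, mul_assoc]
  have hnorm : ∀ a ∈ sd p5, k * a * k⁻¹ ∈ sd p5 := by
    intro a ha
    obtain ⟨a', ha', e⟩ := (Subgroup.mem_normalizer_iff.1 (c.S_le_normalizer hs) _).1 ⟨a, ha, rfl⟩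
    have : k * a * k⁻¹ = a' := c.inj (by
      rw [e, hrs, map_mul, map_mul, map_inv,
        show c.φ k * r * c.φ a * (c.φ k * r)⁻¹ = c.φ k * (r * c.φ a) * r⁻¹ * (c.φ k)⁻¹ by group,
        (c.mem_R.1 hk a).eq]
      group)
    rw [this]; exact ha'
  have hn2 := norm_two k
  simp only [Bool.or_eq_true, Bool.not_eq_true', decide_eq_false_iff_not, decide_eq_true_eq, List.any_eq_true,
    List.mem_cons, List.not_mem_nil, or_false] at hn2
  rcases hn2 with (h | ⟨a, ha, h⟩) | h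
  · exact absurd hk8 h
  · exact absurd (hnorm a (by rcases ha with rfl | rfl <;> decide +kernel)) h
  · refine c.mem_CE.2 fun e he => ?_
    rw [hrs]
    refine (c.comm_E ⟨k, h, rfl⟩ he).mul_left ?_
    obtain ⟨a, -, rfl⟩ := he
    exact c.mem_R.1 hk a

end WC

end Cfsg.Agent.J1Weak
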