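import Cfsg.Agent.Lib.J1Weak.HSub
import Cfsg.Agent.Lib.Involutions.Isolated
import Cfsg.Agent.Lib.Coprime.Generation
import Cfsg.Agent.S0215

/-!
# Components of the commuting graph on the class of `t`; the involutions of `H` centralize the whole class

If an involution `z = t h` (`h ∈ H`) has a conjugate of `t` commuting with it outside the component, `t` is isolated
in `C(z)` and `O(C(z))` lies in the stabilizer of the component by coprime generation: impossible.
-/

set_option autoImplicit false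
set_option linter.all false
set_option maxRecDepth 100000
set_option synthInstance.maxHeartbeats 200000

namespace Cfsg.Agent.J1Weak

open Cfsg.Agent.Involutions.Basic Cfsg.Agent.CentralTwoAlt

theorem involution_count :
    (Finset.univ.filter fun k : K5 => decide (k * k = 1) && !decide (k = 1)).card = 31 := by
  decide +kernel

theorem four_sd : ((sd p5).filter fun k => k.1 = 1).card = 4 := by decide +kernel

theorem even_moved {α : Type*} [DecidableEq α] (s : Finset α) (σ : α → α) (hs : ∀ a ∈ s, σ a ∈ s)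
    (hσ : ∀ a ∈ s, σ (σ a) = a) : Even (s.filter fun a => σ a ≠ a).card := by
  have h : (∑ a ∈ s.filter (fun a => σ a ≠ a), (1 : ZMod 2)) = 0 := by
    refine Finset.sum_involution (fun a _ => σ a) (fun _ _ => by decide)
      (fun a ha _ => (Finset.mem_filter.1 ha).2) (fun a ha => ?_) (fun a ha => hσ a (Finset.mem_filter.1 ha).1)
    obtain ⟨h1, h2⟩ := Finset.mem_filter.1 ha
    exact Finset.mem_filter.2 ⟨hs a h1, fun h => h2 (by rw [hσ a h1] at h; exact h.symm)⟩
  rw [Finset.sum_const, nsmul_eq_mul, mul_one] at h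
  exact ZMod.natCast_eq_zero_iff_even.1 h

namespace WC

universe u

variable {G : Type u} [Group G] [Finite G] (c : WC G)

/-- Adjacency in the commuting graph on the class of `t`. -/
def Adj (x y : G) : Prop := x ∈ c.X ∧ y ∈ c.X ∧ Commute x y

/-- The component of `t`. -/
def Δ : Set G := {y | Relation.ReflTransGen c.Adj c.t y}

theorem t_mem_Δ : c.t ∈ c.Δ := Relation.ReflTransGen.refl

theorem Δ_sub_X {y : G} (hy : y ∈ c.Δ) : y ∈ c.X := by
  rcases Relation.ReflTransGen.cases_tail hy with h | ⟨b, -, hb⟩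
  · exact h ▸ c.t_mem_X
  · exact hb.2.1

theorem path_conj (g : G) {x y : G} (h : Relation.ReflTransGen c.Adj x y) :
    Relation.ReflTransGen c.Adj (g * x * g⁻¹) (g * y * g⁻¹) :=
  Relation.ReflTransGen.lift (fun a => g * a * g⁻¹)
    (fun a b hab => ⟨c.conj_mem_X g hab.1, c.conj_mem_X g hab.2.1, hab.2.2.map (MulAut.conj g).toMonoidHom⟩) _ _ h

theorem path_symm {x y : G} (h : Relation.ReflTransGen c.Adj x y) : Relation.ReflTransGen c.Adj y x := by
  induction h with
  | refl => exact Relation.ReflTransGen.refl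
  | tail _ hab ih => exact Relation.ReflTransGen.head ⟨hab.2.1, hab.1, hab.2.2.symm⟩ ih

theorem mem_Δ_of_commute {y z : G} (hy : y ∈ c.Δ) (hz : z ∈ c.X) (h : Commute y z) : z ∈ c.Δ :=
  Relation.ReflTransGen.tail hy ⟨c.Δ_sub_X hy, hz, h⟩

theorem H_Δ {y : G} (hy : y ∈ c.Δ) : c.H y = c.H c.t := by
  induction hy with
  | refl => rfl
  | tail _ hab ih => rw [← c.H_eq_of_commute hab.1 hab.2.1 hab.2.2, ih]

/-- The stabilizer of the component. -/
def M : Subgroup G where
  carrier := {g | g * c.t * g⁻¹ ∈ c.Δ}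
  one_mem' := by simpa using c.t_mem_Δ
  mul_mem' := by
    intro g h hg hh
    show g * h * c.t * (g * h)⁻¹ ∈ c.Δ
    rw [show g * h * c.t * (g * h)⁻¹ = g * (h * c.t * h⁻¹) * g⁻¹ by group]
    exact Relation.ReflTransGen.trans hg (c.path_conj g hh)
  inv_mem' := by
    intro g hg
    show g⁻¹ * c.t * g⁻¹⁻¹ ∈ c.Δ
    have h1 := c.path_symm (c.path_conj g⁻¹ hg)
    rwa [show g⁻¹ * (g * c.t * g⁻¹) * g⁻¹⁻¹ = c.t by group] at h1

theorem mem_M {g : G} : g ∈ c.M ↔ g * c.t * g⁻¹ ∈ c.Δ := Iff.rfl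

theorem centralizer_le_M {y g : G} (hy : y ∈ c.Δ) (h : Commute g y) : g ∈ c.M := by
  have h1 := c.path_symm (c.path_conj g hy)
  rw [show g * y * g⁻¹ = y by rw [mul_inv_eq_iff_eq_mul]; exact h.eq] at h1
  exact Relation.ReflTransGen.trans hy h1

theorem Δ_sub_M {y : G} (hy : y ∈ c.Δ) : y ∈ c.M := c.centralizer_le_M hy (Commute.refl y)

theorem Δ_conj {g y : G} (hg : g ∈ c.M) (hy : y ∈ c.Δ) : g * y * g⁻¹ ∈ c.Δ :=
  Relation.ReflTransGen.trans hg (c.path_conj g hy)

theorem H_conj_M {g h : G} (hg : g ∈ c.M) (hh : h ∈ c.H c.t) : g * h * g⁻¹ ∈ c.H c.t :=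
  c.H_Δ hg ▸ c.H_conj g hh

theorem commute_H {y h : G} (hy : y ∈ c.Δ) (hh : h ∈ c.H c.t) : Commute h y := by
  obtain ⟨g, rfl⟩ := c.Δ_sub_X hy
  have hg : g ∈ c.M := hy
  have h1 := (c.H_comm (c.H_conj_M (inv_mem hg) hh) τK).map (MulAut.conj g).toMonoidHom
  rw [c.phi_tau] at h1
  simpa [mul_assoc] using h1

theorem W_le_M (k : K5) : c.φ k ∈ c.M := c.centralizer_le_M c.t_mem_Δ (c.W_comm k)

theorem H_le_M {h : G} (hh : h ∈ c.H c.t) : h ∈ c.M := c.centralizer_le_M c.t_mem_Δ (c.commute_H c.t_mem_Δ hh)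

/-- The component as a finite set. -/
noncomputable def ΔF : Finset G := (Set.toFinite c.Δ).toFinset

theorem mem_ΔF {y : G} : y ∈ c.ΔF ↔ y ∈ c.Δ := Set.Finite.mem_toFinset _

theorem odd_Δ : Odd c.ΔF.card := by
  classical
  have h1 := even_moved c.ΔF (fun y => c.t * y * c.t⁻¹)
    (fun y hy => c.mem_ΔF.2 (c.Δ_conj (c.Δ_sub_M c.t_mem_Δ) (c.mem_ΔF.1 hy)))
    (fun y _ => by
      show c.t * (c.t * y * c.t⁻¹) * c.t⁻¹ = y
      rw [inv_eq c.orderOf_t]
      calc c.t * (c.t * y * c.t) * c.t = (c.t * c.t) * y * (c.t * c.t) := by group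
        _ = y := by rw [inv_sq_one c.orderOf_t]; group)
  have h2 : (c.ΔF.filter fun y => ¬ c.t * y * c.t⁻¹ ≠ y) =
      (Finset.univ.filter fun k : K5 => decide (k * k = 1) && !decide (k = 1)).image c.φ := by
    ext y
    simp only [Finset.mem_filter, Finset.mem_image, Finset.mem_univ, true_and, not_not, c.mem_ΔF,
      Bool.and_eq_true, decide_eq_true_eq, Bool.not_eq_true', decide_eq_false_iff_not]
    constructor
    · rintro ⟨hy, hc⟩
      have hX := c.Δ_sub_X hy
      obtain ⟨k, rfl⟩ := c.mem_W hX (mul_inv_eq_iff_eq_mul.1 hc).symm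
      exact ⟨k, ⟨c.inj (by rw [map_mul, map_one]; exact inv_sq_one (c.orderOf_X hX)),
        fun h => ne_one (c.orderOf_X hX) (by rw [h, map_one])⟩, rfl⟩
    · rintro ⟨k, ⟨hk, hk1⟩, rfl⟩
      exact ⟨c.mem_Δ_of_commute c.t_mem_Δ (c.involution_W hk hk1) (c.W_comm k).symm,
        mul_inv_eq_iff_eq_mul.2 (c.W_comm k).symm.eq⟩
  have h3 := congrArg Finset.card h2
  rw [Finset.card_image_of_injective _ c.inj, involution_count] at h3
  have h4 := Finset.card_filter_add_card_filter_not (s := c.ΔF) (fun y => c.t * y * c.t⁻¹ ≠ y)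
  obtain ⟨m, hm⟩ := h1
  exact ⟨m + 15, by omega⟩

/-- An involution of the stabilizer fixes a member of the component. -/
theorem exists_fixed {i : G} (hi : i * i = 1) (hiM : i ∈ c.M) : ∃ y ∈ c.Δ, Commute i y := by
  classical
  by_contra hcon
  push Not at hcon
  have hii : i⁻¹ = i := inv_eq_of_mul_eq_one_right hi
  have h1 := even_moved c.ΔF (fun y => i * y * i⁻¹) (fun y hy => c.mem_ΔF.2 (c.Δ_conj hiM (c.mem_ΔF.1 hy)))
    (fun y _ => by
      show i * (i * y * i⁻¹) * i⁻¹ = y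
      rw [hii]
      calc i * (i * y * i) * i = (i * i) * y * (i * i) := by group
        _ = y := by rw [hi]; group)
  rw [Finset.filter_true_of_mem (p := fun y => i * y * i⁻¹ ≠ y)
    (fun y hy h => hcon y (c.mem_ΔF.1 hy) (mul_inv_eq_iff_eq_mul.1 h))] at h1
  exact Nat.not_even_iff_odd.2 c.odd_Δ h1

theorem mem_Δ_of_X_M {x : G} (hx : x ∈ c.X) (hM : x ∈ c.M) : x ∈ c.Δ := by
  obtain ⟨y, hy, h⟩ := c.exists_fixed (inv_sq_one (c.orderOf_X hx)) hM
  exact c.mem_Δ_of_commute hy hx h.symm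

/-- Conjugates of involutions of `H` that centralize a member of the component lie in `H`. -/
theorem pure_fusion {h g y : G} (hh : h ∈ c.H c.t) (h2 : h * h = 1) (hy : y ∈ c.Δ)
    (hc : Commute (g * h * g⁻¹) y) : g * h * g⁻¹ ∈ c.H c.t := by
  obtain ⟨a, rfl⟩ := c.Δ_sub_X hy
  have ha : a ∈ c.M := hy
  suffices key : (a⁻¹ * g) * h * (a⁻¹ * g)⁻¹ ∈ c.H c.t by
    have := c.H_conj_M ha key
    rwa [show a * (a⁻¹ * g * h * (a⁻¹ * g)⁻¹) * a⁻¹ = g * h * g⁻¹ by group] at this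
  set b := a⁻¹ * g with hb
  have hbc : Commute (b * h * b⁻¹) c.t := by
    have := hc.map (MulAut.conj a⁻¹).toMonoidHom
    simp only [MulEquiv.coe_toMonoidHom, MulAut.conj_apply, inv_inv] at this
    rw [show a⁻¹ * (a * c.t * a⁻¹) * a = c.t by group,
      show a⁻¹ * (g * h * g⁻¹) * a = b * h * b⁻¹ by rw [hb]; group] at this
    exact this
  obtain ⟨k, r, hr, e⟩ := c.decomp hbc
  have hk2 : k * k = 1 := by
    have h1 : b * h * b⁻¹ * (b * h * b⁻¹) = 1 := by
      rw [show b * h * b⁻¹ * (b * h * b⁻¹) = b * (h * h) * b⁻¹ by group, h2]; group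
    rw [e, show c.φ k * r * (c.φ k * r) = c.φ k * (r * c.φ k) * r by group, (c.H_comm hr k).eq,
      show c.φ k * (c.φ k * r) * r = c.φ (k * k) * (r * r) by rw [map_mul]; group] at h1
    refine c.W_H ?_
    rw [eq_inv_of_mul_eq_one_left h1]
    exact inv_mem (mul_mem hr hr)
  obtain ⟨d, hd⟩ := std5.invConj k hk2
  have hdk : c.φ d * (b * h * b⁻¹) * (c.φ d)⁻¹ = c.φ (d * k * d⁻¹) * r := by
    rw [e, map_mul, map_mul, map_inv,
      show c.φ d * (c.φ k * r) * (c.φ d)⁻¹ = c.φ d * c.φ k * (r * (c.φ d)⁻¹) by group,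
      ((c.H_comm hr d).inv_right).eq]
    group
  have hrE : ∀ e' ∈ c.E, Commute r e' := by
    rintro e' ⟨j, -, rfl⟩; exact c.H_comm hr j
  obtain ⟨n, hn, en⟩ := c.fusion (a := h) (b := c.φ (d * k * d⁻¹) * r) (g := c.φ d * b)
    (by rintro e' ⟨j, -, rfl⟩; exact c.H_comm hh j)
    (fun e' he' => (c.comm_E ⟨_, hd, rfl⟩ he').mul_left (hrE e' he'))
    (by rw [← hdk]; group)
  have h1 : c.φ (d * k * d⁻¹) * r ∈ c.H c.t := en ▸ (c.H_t ▸ c.R₀_conj hn (c.H_t ▸ hh))
  have h3 : c.φ (d * k * d⁻¹) ∈ c.H c.t := by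
    have := mul_mem h1 (inv_mem hr)
    rwa [mul_inv_cancel_right] at this
  have hk1 := conj_eq_one_iff.1 (c.W_H h3)
  rw [e, hk1, map_one, one_mul]
  exact hr

/-- `t` is isolated in the centralizer of `t h`. -/
theorem isolated_step {h : G} (hh : h ∈ c.H c.t) (h2 : orderOf h = 2) {d : G}
    (hd : Commute d (c.t * h)) : d * c.t * d⁻¹ ∈ c.Δ := by
  classical
  set z := c.t * h with hz
  set C := Subgroup.centralizer ({z} : Set G) with hC
  have htz : Commute c.t z := (Commute.refl _).mul_right (c.commute_H c.t_mem_Δ hh).symm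
  have htC : c.t ∈ C := Subgroup.mem_centralizer_singleton_iff.2 htz.eq
  let u : C := ⟨c.t, htC⟩
  have hu : orderOf u = 2 := by rw [Subgroup.orderOf_mk, c.orderOf_t]
  have hiso : Cfsg.IsIsolatedInvolution u := by
    refine ⟨hu, fun g hg => Subtype.ext ?_⟩
    have hgz : Commute (g : G) z := Subgroup.mem_centralizer_singleton_iff.1 g.2
    have hgc : Commute c.t ((g : G) * c.t * (g : G)⁻¹) := congrArg Subtype.val hg.eq
    show (g : G) * c.t * (g : G)⁻¹ = c.t
    obtain ⟨a, ha⟩ := c.mem_W (c.conj_mem_X (g : G) c.t_mem_X) hgc.symm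
    have hgh : (g : G) * h * (g : G)⁻¹ = c.φ (a⁻¹ * τK) * h := by
      rw [map_mul, map_inv, ha, c.phi_tau]
      calc (g : G) * h * (g : G)⁻¹ = ((g : G) * c.t * (g : G)⁻¹)⁻¹ * ((g : G) * z * (g : G)⁻¹) := by rw [hz]; group
        _ = ((g : G) * c.t * (g : G)⁻¹)⁻¹ * z := by rw [hgz.eq, mul_inv_cancel_right]
        _ = _ := by rw [hz]; group
    have hcomm : Commute ((g : G) * h * (g : G)⁻¹) c.t := by
      rw [hgh]
      exact (c.W_comm _).mul_left (c.commute_H c.t_mem_Δ hh)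
    have h1 := c.pure_fusion hh (inv_sq_one h2) c.t_mem_Δ hcomm
    rw [hgh] at h1
    have h3 := mul_mem h1 (inv_mem hh)
    rw [mul_inv_cancel_right] at h3
    rw [← ha, inv_mul_eq_one.1 (c.W_H h3), c.phi_tau]
  obtain ⟨P, hP⟩ := (IsPGroup.of_card (n := 1) (by rw [Nat.card_zpowers, hu, pow_one]) :
    IsPGroup 2 (Subgroup.zpowers u)).exists_le_sylow
  have huP : u ∈ P := hP (Subgroup.mem_zpowers u)
  obtain ⟨N, hN, hNodd, hNc⟩ := Cfsg.Agent.S0215.result P u hu huP
    ((Involutions.Isolated.iff_unique_in_sylow P hu huP).1 hiso)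
  -- a four-group of `C` generates `N` by its fixed points
  set N' := N.map C.subtype with hN'
  let A : Subgroup G := c.E ⊓ (MonoidHom.fst _ _ : K5 →* Multiplicative (ZMod 2)).ker.map c.φ
  have hA : A ≤ C := by
    rintro e ⟨⟨k, -, rfl⟩, -⟩
    refine Subgroup.mem_centralizer_singleton_iff.2 ?_
    exact ((c.W_comm k).mul_right (c.H_comm hh k).symm).eq
  haveI : IsMulCommutative A := ⟨⟨fun a b => Subtype.ext (c.comm_E a.2.1 b.2.1).eq⟩⟩
  have hAcard : Nat.card A = 4 := by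
    let f : {k // k ∈ (sd p5).filter fun k => k.1 = 1} → A := fun k =>
      ⟨c.φ k, ⟨k, (Finset.mem_filter.1 k.2).1, rfl⟩, ⟨k, (Finset.mem_filter.1 k.2).2, rfl⟩⟩
    have hf : Function.Bijective f := by
      refine ⟨fun a b hab => Subtype.ext (c.inj (congrArg Subtype.val hab)), ?_⟩
      rintro ⟨g, ⟨k, hk, e⟩, ⟨j, hj, e'⟩⟩
      obtain rfl : j = k := c.inj (e'.trans e.symm)
      exact ⟨⟨j, Finset.mem_filter.2 ⟨hk, hj⟩⟩, Subtype.ext e⟩
    rw [← Nat.card_congr (Equiv.ofBijective f hf), Nat.card_eq_fintype_card, Fintype.card_coe, four_sd]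
  have hAcyc : ¬ IsCyclic A := fun hc => by
    obtain ⟨a, ha⟩ := hc.exists_generator
    have h1 : orderOf a ≤ 2 := Nat.le_of_dvd (by norm_num) (orderOf_dvd_of_pow_eq_one (by
      rw [sq]; exact Subtype.ext (c.sq_E a.2.1)))
    rw [orderOf_eq_card_of_forall_mem_zpowers ha, hAcard] at h1
    omega
  have hAN : A ≤ Subgroup.normalizer (N' : Set G) := fun a ha => mem_normalizer_of (fun x hx => by
    obtain ⟨x', hx', rfl⟩ := hx
    exact ⟨⟨a, hA ha⟩ * x' * ⟨a, hA ha⟩⁻¹, hN.conj_mem x' hx' _, rfl⟩)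
  have hcop : (Nat.card A).Coprime (Nat.card N') := by
    rw [hAcard, hN', Subgroup.card_subtype]
    exact (Nat.coprime_two_left.2 hNodd).pow_left 2
  have hNM : N' ≤ c.M := by
    rw [← Coprime.fixedGen_eq hAcyc hAN hcop, Coprime.fixedGen]
    refine iSup₂_le fun a ha => ?_
    obtain ⟨⟨⟨k, hk, rfl⟩, -⟩, ha1⟩ := ha
    have hX : c.φ k ∈ c.Δ := c.mem_Δ_of_commute c.t_mem_Δ (c.E_mem_X ⟨k, hk, rfl⟩ ha1) (c.W_comm k).symm
    exact fun g hg => c.centralizer_le_M hX (Subgroup.mem_centralizer_singleton_iff.1 hg.2)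
  have hdC : d ∈ C := Subgroup.mem_centralizer_singleton_iff.2 hd.eq
  have hcomm : c.t * d * c.t⁻¹ * d⁻¹ ∈ c.M := hNM ⟨_, hNc ⟨d, hdC⟩, rfl⟩
  refine c.mem_Δ_of_X_M (c.conj_mem_X d c.t_mem_X) ?_
  have h1 := mul_mem (c.Δ_sub_M c.t_mem_Δ) hcomm
  rwa [show c.t * (c.t * d * c.t⁻¹ * d⁻¹) = (c.t * c.t) * (d * c.t⁻¹ * d⁻¹) by group,
    inv_sq_one c.orderOf_t, one_mul, inv_eq c.orderOf_t] at h1

/-- The involutions of `H` centralize the class of `t`. -/
theorem pure_centralizes {h : G} (hh : h ∈ c.H c.t) (h2 : orderOf h = 2) : ∀ x ∈ c.X, Commute h x := by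
  have hM : ∀ g : G, g * h * g⁻¹ ∈ c.M := by
    intro g
    set h' := g * h * g⁻¹ with hh'
    have ho : orderOf h' = 2 := by rw [hh', orderOf_conj, h2]
    have hnotX : h ∉ c.X := fun hX => by
      obtain ⟨k, hk⟩ := c.mem_W hX (c.commute_H c.t_mem_Δ hh)
      have := c.W_H (hk.symm ▸ hh)
      exact ne_one h2 (by rw [← hk, this, map_one])
    rcases Nat.even_or_odd (orderOf (c.t * h')) with he | hodd
    swap
    · obtain ⟨d, -, hd⟩ := exists_conj_of_odd c.orderOf_t ho hodd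
      exfalso
      apply hnotX
      refine ⟨g⁻¹ * d, ?_⟩
      rw [show g⁻¹ * d * c.t * (g⁻¹ * d)⁻¹ = g⁻¹ * (d * c.t * d⁻¹) * g by group, hd, hh']
      group
    obtain ⟨hzo, hzt, hzh⟩ := middle_involution c.orderOf_t ho he
    set m := orderOf (c.t * h') / 2 with hm
    set a := c.t * h' with ha
    set z := a ^ m with hzdef
    have hconj : ∀ i : ℤ, a ^ (-i) * c.t * (a ^ (-i))⁻¹ = c.t * a ^ (2 * i) := by
      intro i
      rw [ha, zpow_conj_left c.orderOf_t ho]
      congr 2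
      ring
    rcases Nat.even_or_odd' m with ⟨j, hj | hj⟩
    · have hX : c.t * z ∈ c.X := by
        refine ⟨a ^ (-(j : ℤ)), ?_⟩
        rw [hconj, hzdef, hj, ← zpow_natCast a (2 * j)]
        push_cast; rfl
      obtain ⟨k, hk⟩ := c.mem_W hX ((Commute.refl c.t).mul_left hzt)
      have hzW : c.φ (τK * k) = z := by
        rw [map_mul, hk, c.phi_tau, ← mul_assoc, inv_sq_one c.orderOf_t, one_mul]
      have hzX : z ∈ c.X := by
        rw [← hzW]
        exact c.involution_W (c.inj (by rw [map_mul, hzW, map_one]; exact inv_sq_one hzo))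
          (fun hh1 => ne_one hzo (by rw [← hzW, hh1, map_one]))
      exact c.centralizer_le_M (c.mem_Δ_of_commute c.t_mem_Δ hzX hzt.symm) hzh.symm
    · have htz : c.t * z = a ^ (-(j : ℤ)) * h' * (a ^ (-(j : ℤ)))⁻¹ := by
        have h1 : h' = c.t * a := by rw [ha, ← mul_assoc, inv_sq_one c.orderOf_t, one_mul]
        calc c.t * z = c.t * a ^ (2 * (j : ℤ)) * a := by
              rw [hzdef, hj, ← zpow_natCast a (2 * j + 1)]; push_cast; rw [zpow_add, zpow_one, mul_assoc]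
          _ = a ^ (-(j : ℤ)) * c.t * (a ^ (-(j : ℤ)))⁻¹ * a := by rw [hconj]
          _ = a ^ (-(j : ℤ)) * (c.t * a) * (a ^ (-(j : ℤ)))⁻¹ := by group
          _ = _ := by rw [← h1]
      have hcj : c.t * z = a ^ (-(j : ℤ)) * g * h * (a ^ (-(j : ℤ)) * g)⁻¹ := by rw [htz, hh']; group
      have htzH : c.t * z ∈ c.H c.t := by
        rw [hcj]
        refine c.pure_fusion hh (inv_sq_one h2) c.t_mem_Δ ?_
        rw [← hcj]
        exact (Commute.refl c.t).mul_left hzt
      have ho' : orderOf (c.t * z) = 2 := by rw [hcj, orderOf_conj, h2]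
      have hz : c.t * (c.t * z) = z := by rw [← mul_assoc, inv_sq_one c.orderOf_t, one_mul]
      set d := a ^ (-((j : ℤ) + 1)) with hd
      have hdz : Commute d (c.t * (c.t * z)) := by
        rw [hz, hzdef, ← zpow_natCast a m]
        exact (Commute.refl a).zpow_zpow _ _
      have hy := c.isolated_step htzH ho' hdz
      have hy' : d * c.t * d⁻¹ = h' * z := by
        rw [hd, hconj, hzdef, hj, ← zpow_natCast a (2 * j + 1)]
        push_cast
        rw [show (2 * ((j : ℤ) + 1)) = 1 + (2 * j + 1) by ring, zpow_add, zpow_one, ha, ← mul_assoc,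
          ← mul_assoc, inv_sq_one c.orderOf_t, one_mul]
      rw [hy'] at hy
      have hzM : z ∈ c.M := c.centralizer_le_M c.t_mem_Δ hzt
      have := mul_mem (c.Δ_sub_M hy) hzM
      rwa [mul_assoc, inv_sq_one hzo, mul_one] at this
  have hH : ∀ g : G, g * h * g⁻¹ ∈ c.H c.t := by
    intro g
    obtain ⟨y, hy, hc⟩ := c.exists_fixed (by
      rw [show g * h * g⁻¹ * (g * h * g⁻¹) = g * (h * h) * g⁻¹ by group, inv_sq_one h2]; group) (hM g)
    exact c.pure_fusion hh (inv_sq_one h2) hy hc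
  rintro x ⟨g, rfl⟩
  have h1 := (c.commute_H c.t_mem_Δ (hH g⁻¹)).map (MulAut.conj g).toMonoidHom
  simpa [mul_assoc] using h1

end WC

end Cfsg.Agent.J1Weak
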