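import Cfsg.Agent.Lib.J1Weak.Components
import Cfsg.Agent.Lib.J1Order.Main
import Cfsg.Agent.Lib.Involutions.StronglyEmbedded

/-!
# The commuting graph is connected when only the identity centralizes the class

Otherwise the stabilizer `M` of a component is strongly embedded and a subgroup of odd order of `M` is transitive on
`1463` involutions; `M / H` would be a group of order `175560` with an element of order `209`.
-/

set_option autoImplicit false
set_option linter.all false
set_option maxRecDepth 100000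
set_option synthInstance.maxHeartbeats 200000

namespace Cfsg.Agent.J1Weak

open Cfsg.Agent.Involutions.Basic Cfsg.Agent.CentralTwoAlt MulAction

universe u

theorem odd_dvd_1155 {n : ℕ} (h1 : n ∣ 175560) (h2 : Odd n) : n ∣ 21945 :=
  ((Nat.coprime_two_right.2 h2).pow_right 3).dvd_of_dvd_mul_left (show n ∣ 2 ^ 3 * 21945 by norm_num; exact h1)

/-- No simple group of order `175560` has an odd subgroup of order divisible by `1463`. -/
theorem no_odd_1463 {Γ : Type u} [Group Γ] [Finite Γ] [IsSimpleGroup Γ] (hΓ : Nat.card Γ = 175560)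
    (D : Subgroup Γ) (hodd : Odd (Nat.card D)) (h1463 : 1463 ∣ Nat.card D) : False := by
  haveI : Fact (Nat.Prime 19) := ⟨by norm_num⟩
  haveI : Fact (Nat.Prime 11) := ⟨by norm_num⟩
  have hdvd : Nat.card D ∣ 21945 := odd_dvd_1155 (hΓ ▸ D.card_subgroup_dvd_card) hodd
  have hsf : Squarefree (Nat.card D) := Squarefree.squarefree_of_dvd hdvd (by decide +kernel)
  haveI := IsZGroup.of_squarefree hsf
  obtain ⟨P⟩ : Nonempty (Sylow 19 D) := inferInstance
  have hP19 : Nat.card P = 19 := by
    rw [P.card_eq_multiplicity]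
    have h1 := ((by norm_num : Nat.Prime 19).pow_dvd_iff_le_factorization (k := 1) Nat.card_pos.ne').1
      ((by norm_num : 19 ^ 1 ∣ 1463).trans h1463)
    have h2 : ¬ 19 ^ 2 ∣ Nat.card D := fun h => by
      have := h.trans hdvd
      norm_num at this
    have h3 := mt ((by norm_num : Nat.Prime 19).pow_dvd_iff_le_factorization (k := 2) Nat.card_pos.ne').2 h2
    rw [show (Nat.card D).factorization 19 = 1 by omega, pow_one]
  haveI : IsCyclic (P : Subgroup D) := isCyclic_of_prime_card hP19
  haveI : Subsingleton (Sylow 19 D) := by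
    have h1 := card_sylow_modEq_one 19 D
    have h2 := Sylow.card_dvd_index P
    have e := (P : Subgroup D).index_mul_card
    rw [hP19] at e
    have h3 : Nat.card (Sylow 19 D) ∣ 1155 := by
      refine h2.trans (Nat.dvd_of_mul_dvd_mul_right (by norm_num : 0 < 19) ?_)
      rw [e]
      exact (by norm_num : (21945 : ℕ) = 1155 * 19) ▸ hdvd
    have hcases : ∀ m : ℕ, m ∣ 1155 → m % 19 = 1 → m = 1 ∨ m = 77 := by
      intro m hm h
      have := Nat.le_of_dvd (by norm_num) hm
      interval_cases m <;> omega
    rcases hcases _ h3 h1 with h | h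
    · exact (Nat.card_eq_one_iff_unique.1 h).1
    · -- a Sylow 19-subgroup outside the derived group would be central in its normalizer
      exfalso
      have hidx := Sylow.card_eq_index_normalizer P
      have hc := @IsZGroup.isCyclic_commutator D _ _ _
      set L := commutator D ⊔ (P : Subgroup D) with hL
      haveI : L.Normal := Subgroup.Normal.of_commutator_le ↥D le_sup_left
      -- `P` centralizes the derived group
      have hcent : ∀ a ∈ commutator D, ∀ p ∈ (P : Subgroup D), Commute a p := by
        intro a ha p hp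
        have hpnorm : p ∈ Subgroup.normalizer (commutator D : Set D) := by
          rw [Subgroup.normalizer_eq_top_iff.2 inferInstance]; trivial
        let ρ := (commutator D).normalizerMonoidHom
        have h19 : ρ ⟨p, hpnorm⟩ = 1 := by
          have hd1 : orderOf (ρ ⟨p, hpnorm⟩) ∣ 19 := by
            refine (orderOf_map_dvd ρ _).trans ?_
            rw [Subgroup.orderOf_mk]
            exact hP19 ▸ Subgroup.orderOf_dvd_natCard _ hp
          have hd2 : orderOf (ρ ⟨p, hpnorm⟩) ∣ (Nat.card (commutator D)).totient :=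
            IsCyclic.card_mulAut (commutator D) ▸ orderOf_dvd_natCard _
          have hd3 : (Nat.card (commutator D)).totient ∣ Nat.totient 21945 :=
            Nat.totient_dvd_of_dvd ((Subgroup.card_subgroup_dvd_card _).trans hdvd)
          rw [show Nat.totient 21945 = 8640 by decide +kernel] at hd3
          exact orderOf_eq_one_iff.1 (Nat.eq_one_of_dvd_coprimes (by norm_num) hd1 (hd2.trans hd3))
        have := congrArg Subtype.val (DFunLike.congr_fun h19 (⟨a, ha⟩ : commutator D))
        exact (mul_inv_eq_iff_eq_mul.1 this).symm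
      have hPL : (P : Subgroup D) ≤ L := le_sup_right
      have hPnL : L ≤ Subgroup.normalizer ((P : Subgroup D) : Set D) := sup_le (fun a ha =>
        Subgroup.mem_normalizer_iff.2 fun p => by
          constructor
          · intro hp
            rwa [(hcent a ha p hp).eq, mul_inv_cancel_right]
          · intro hp
            have h1 := (hcent a ha _ hp).eq
            have h2 : a * p * a⁻¹ = p := by
              rw [inv_mul_cancel_right] at h1
              exact mul_left_cancel h1
            rwa [h2] at hp) Subgroup.le_normalizer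
      -- so all Sylow 19-subgroups, lying in `L`, coincide
      let PL : Sylow 19 L := P.subtype hPL
      haveI : (PL : Subgroup L).Normal := Subgroup.normal_subgroupOf_of_le_normalizer hPnL
      haveI := Sylow.unique_of_normal PL inferInstance
      have hone : ∀ Q : Sylow 19 D, Q = P := by
        intro Q
        obtain ⟨d, hd⟩ := MulAction.exists_smul_eq D P Q
        have hQL : (Q : Subgroup D) ≤ L := by
          rw [← hd, Sylow.coe_subgroup_smul]
          rintro _ ⟨p, hp, rfl⟩
          exact Subgroup.Normal.conj_mem inferInstance p (hPL hp) d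
        have hs : Q.subtype hQL = PL := Subsingleton.elim _ _
        apply Sylow.ext
        have := congrArg (fun S : Sylow 19 L => (S : Subgroup L).map L.subtype) hs
        simpa [Sylow.coe_subtype, Subgroup.map_subgroupOf_eq_of_le hQL, Subgroup.map_subgroupOf_eq_of_le hPL, PL] using this
      haveI : Subsingleton (Sylow 19 D) := ⟨fun a b => (hone a).trans (hone b).symm⟩
      rw [Nat.card_of_subsingleton P] at h
      norm_num at h
  haveI hPn := Sylow.normal_of_subsingleton (P := P)
  -- an element of order eleven centralizes `P`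
  obtain ⟨z, hz⟩ := exists_prime_orderOf_dvd_card' (G := D) 11 ((by norm_num : 11 ∣ 1463).trans h1463)
  obtain ⟨p, hp⟩ := exists_prime_orderOf_dvd_card' (G := (P : Subgroup D)) 19 (by rw [hP19])
  have hcomm : Commute z (p : D) := by
    have hzn : z ∈ Subgroup.normalizer ((P : Subgroup D) : Set D) := by
      rw [Subgroup.normalizer_eq_top_iff.2 hPn]; trivial
    let ρ := (P : Subgroup D).normalizerMonoidHom
    have h11 : ρ ⟨z, hzn⟩ = 1 := by
      have hd1 : orderOf (ρ ⟨z, hzn⟩) ∣ 11 := (orderOf_map_dvd ρ _).trans (by rw [Subgroup.orderOf_mk, hz])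
      have hd2 : orderOf (ρ ⟨z, hzn⟩) ∣ (Nat.card (P : Subgroup D)).totient :=
        IsCyclic.card_mulAut (P : Subgroup D) ▸ orderOf_dvd_natCard _
      rw [hP19, Nat.totient_prime (by norm_num)] at hd2
      exact orderOf_eq_one_iff.1 (Nat.eq_one_of_dvd_coprimes (by norm_num) hd1 hd2)
    exact mul_inv_eq_iff_eq_mul.1 (congrArg Subtype.val (DFunLike.congr_fun h11 p))
  set Q : Subgroup Γ := (P : Subgroup D).map D.subtype with hQ
  have hQ19 : Nat.card Q = 19 := by rw [hQ, Subgroup.card_subtype, hP19]
  set N := Subgroup.normalizer (Q : Set Γ) with hN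
  have hDN : D ≤ N := fun d hd => Subgroup.mem_normalizer_iff.2 fun x => by
    constructor
    · rintro ⟨a, ha, rfl⟩
      exact ⟨⟨d, hd⟩ * a * ⟨d, hd⟩⁻¹, hPn.conj_mem a ha _, rfl⟩
    · rintro ⟨a, ha, e⟩
      refine ⟨⟨d, hd⟩⁻¹ * a * ⟨d, hd⟩, ?_, ?_⟩
      · have := hPn.conj_mem a ha (⟨d, hd⟩⁻¹ : D)
        rw [inv_inv] at this
        exact this
      show d⁻¹ * (a : Γ) * d = x
      rw [show ((a : Γ)) = d * x * d⁻¹ from e]; group
  have hf19 : (Nat.card Γ).factorization 19 = 1 := by
    rw [hΓ]
    have h1 := ((by norm_num : Nat.Prime 19).pow_dvd_iff_le_factorization (k := 1) (n := 175560) (by norm_num)).1 (by norm_num)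
    have h2 := mt ((by norm_num : Nat.Prime 19).pow_dvd_iff_le_factorization (k := 2) (n := 175560) (by norm_num)).2 (by norm_num)
    omega
  let S : Sylow 19 Γ := Sylow.ofCard Q (by rw [hQ19, hf19, pow_one])
  have hn := card_sylow_modEq_one 19 Γ
  rw [Nat.ModEq, Sylow.card_eq_index_normalizer S,
    show Subgroup.normalizer (S : Set Γ) = N from rfl] at hn
  have hidx : N.index ∣ 120 := by
    have h1 := N.index_mul_card
    rw [hΓ] at h1
    obtain ⟨j, hj⟩ := h1463.trans (Subgroup.card_dvd_of_le hDN)
    exact ⟨j, Nat.eq_of_mul_eq_mul_right (by norm_num : 0 < 1463) (by rw [show 120 * 1463 = 175560 by norm_num, ← h1, hj]; ring)⟩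
  have h20 : N.index = 20 := by
    have hcases : ∀ m : ℕ, m ∣ 120 → m % 19 = 1 → m = 1 ∨ m = 20 := by
      intro m hm h
      have := Nat.le_of_dvd (by norm_num) hm
      interval_cases m <;> omega
    refine (hcases _ hidx hn).resolve_left fun h => ?_
    have hQn : Q.Normal := Subgroup.normalizer_eq_top_iff.1 (Subgroup.index_eq_one.1 h)
    rcases hQn.eq_bot_or_eq_top with h' | h' <;> rw [h'] at hQ19 <;> simp [hΓ] at hQ19
  -- the action on the cosets of `N`
  set g := ((p : D) : Γ) with hg
  set w := (z : Γ) with hw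
  have hgQ : g ∈ Q := ⟨p, p.2, rfl⟩
  have hog : orderOf g = 19 := by rw [hg, Subgroup.orderOf_coe, Subgroup.orderOf_coe, hp]
  have how : orderOf w = 11 := by rw [hw, Subgroup.orderOf_coe, hz]
  have hgw : Commute w g := hcomm.map D.subtype
  have hgen : Subgroup.zpowers g = Q := Subgroup.eq_of_le_of_card_ge (Subgroup.zpowers_le.2 hgQ)
    (by rw [Nat.card_zpowers, hog, hQ19])
  have hfix : ∀ y : Γ ⧸ N, g • y = y → y = ((1 : Γ) : Γ ⧸ N) := by
    intro y hy
    obtain ⟨a, rfl⟩ := QuotientGroup.mk_surjective y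
    refine QuotientGroup.eq.2 ?_
    have hle : (Q.map (MulAut.conj a⁻¹).toMonoidHom) ≤ N := by
      rw [← hgen, MonoidHom.map_zpowers, Subgroup.zpowers_le]
      have h1 := QuotientGroup.eq.1 hy.symm
      show a⁻¹ * g * a⁻¹⁻¹ ∈ N
      simpa [mul_assoc] using h1
    -- the Sylow 19-subgroup of `N` is unique
    let SN : Sylow 19 N := S.subtype Subgroup.le_normalizer
    haveI : (SN : Subgroup N).Normal := Subgroup.normal_subgroupOf_of_le_normalizer le_rfl
    haveI := Sylow.unique_of_normal SN inferInstance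
    let S' : Sylow 19 Γ := a⁻¹ • S
    have hS'coe : (S' : Subgroup Γ) = Q.map (MulAut.conj a⁻¹).toMonoidHom := rfl
    have hS' : (S' : Subgroup Γ) ≤ N := hS'coe ▸ hle
    have he : S'.subtype hS' = SN := Subsingleton.elim _ _
    have h2 := congrArg (fun T : Sylow 19 N => (T : Subgroup N).map N.subtype) he
    simp only [SN, Sylow.coe_subtype] at h2
    rw [Subgroup.map_subgroupOf_eq_of_le hS'] at h2
    replace h2 := h2.trans (Subgroup.map_subgroupOf_eq_of_le (Subgroup.le_normalizer : Q ≤ N))
    have hmap : Q.map (MulAut.conj a⁻¹).toMonoidHom = Q := hS'coe ▸ h2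
    rw [mul_one]
    refine Subgroup.mem_normalizer_iff.2 fun x => ⟨fun hx => ?_, fun hx => ?_⟩
    · rw [← hmap]; exact ⟨x, hx, rfl⟩
    · rw [← hmap] at hx
      obtain ⟨q, hq, e⟩ := hx
      change a⁻¹ * q * a⁻¹⁻¹ = a⁻¹ * x * a⁻¹⁻¹ at e
      rwa [mul_left_cancel (mul_right_cancel e)] at hq
  set o : Γ ⧸ N := ((1 : Γ) : Γ ⧸ N) with ho
  have hwo : w • o = o := QuotientGroup.eq.2 (by
    show (_ * 1)⁻¹ * 1 ∈ N
    rw [mul_one, mul_one]; exact inv_mem (hDN z.2))
  have hgo : g • o = o := QuotientGroup.eq.2 (by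
    show (_ * 1)⁻¹ * 1 ∈ N
    rw [mul_one, mul_one]; exact inv_mem (Subgroup.le_normalizer hgQ))
  have hwtriv : ∀ y : Γ ⧸ N, w • y = y := by
    classical
    haveI := Fintype.ofFinite (Γ ⧸ N)
    -- `g` is transitive on the nineteen other cosets
    have horbit : ∀ y, y ≠ o → Nat.card (orbit (Subgroup.zpowers g) y) = 19 := by
      intro y hy
      have h1 : Nat.card (orbit (Subgroup.zpowers g) y) ∣ 19 := by
        have h2 := Subgroup.index_dvd_card (MulAction.stabilizer (Subgroup.zpowers g) y)
        rw [MulAction.index_stabilizer, Nat.card_zpowers, hog, ← Nat.card_coe_set_eq] at h2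
        exact h2
      refine ((Nat.dvd_prime (by norm_num)).1 h1).resolve_left fun h => hy (hfix y ?_)
      have := (Nat.card_eq_one_iff_unique.1 h).1
      exact congrArg Subtype.val (Subsingleton.elim (⟨g • y, ⟨⟨g, Subgroup.mem_zpowers g⟩, rfl⟩⟩ :
        orbit (Subgroup.zpowers g) y) ⟨y, MulAction.mem_orbit_self y⟩)
    have hcardo : Nat.card {y : Γ ⧸ N // y ≠ o} = 19 := by
      rw [Nat.card_eq_fintype_card, Fintype.card_subtype_compl, Fintype.card_subtype_eq, ← Nat.card_eq_fintype_card,
        ← Subgroup.index_eq_card, h20]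
    -- `w` fixes one of them
    have hwfix : ∃ y, y ≠ o ∧ w • y = y := by
      let A := Subgroup.zpowers w
      have hA : IsPGroup 11 A := IsPGroup.of_card (n := 1) (by rw [Nat.card_zpowers, how, pow_one])
      have hne : ∀ (a : A) (y : Γ ⧸ N), y ≠ o → (a : Γ) • y ≠ o := fun a y hy h => hy (by
        rw [← inv_smul_smul (a : Γ) y, h, inv_smul_eq_iff]
        obtain ⟨i, hi⟩ := Subgroup.mem_zpowers_iff.1 a.2
        have hwS : w ∈ MulAction.stabilizer Γ o := hwo
        exact (hi ▸ zpow_mem hwS i : (a : Γ) ∈ MulAction.stabilizer Γ o).symm)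
      let act : MulAction A {y : Γ ⧸ N // y ≠ o} :=
        { smul := fun a y => ⟨(a : Γ) • y.1, hne a y.1 y.2⟩
          one_smul := fun y => Subtype.ext (one_smul Γ y.1)
          mul_smul := fun a b y => Subtype.ext (mul_smul (a : Γ) b y.1) }
      obtain ⟨⟨y, hy⟩, hf⟩ := hA.nonempty_fixed_point_of_prime_not_dvd_card {y : Γ ⧸ N // y ≠ o}
        (by rw [hcardo]; norm_num)
      exact ⟨y, hy, congrArg Subtype.val (hf ⟨w, Subgroup.mem_zpowers w⟩)⟩
    obtain ⟨y, hy, hwy⟩ := hwfix
    intro x
    by_cases hx : x = o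
    · rw [hx, hwo]
    have hsub : orbit (Subgroup.zpowers g) y ⊆ {x | x ≠ o} := by
      rintro _ ⟨⟨q, hq⟩, rfl⟩ h
      apply hy
      have hgS : g ∈ MulAction.stabilizer Γ o := hgo
      have hqo : q • o = o := Subgroup.zpowers_le.2 hgS hq
      exact MulAction.injective q (h.trans hqo.symm)
    have heq : orbit (Subgroup.zpowers g) y = {x | x ≠ o} := Set.eq_of_subset_of_ncard_le hsub (by
      rw [← Nat.card_coe_set_eq, ← Nat.card_coe_set_eq, horbit y hy]; exact hcardo.le) (Set.toFinite _)
    obtain ⟨⟨q, hq⟩, rfl⟩ : x ∈ orbit (Subgroup.zpowers g) y := heq ▸ hx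
    obtain ⟨i, rfl⟩ := Subgroup.mem_zpowers_iff.1 hq
    show w • (g ^ i • y) = g ^ i • y
    rw [← mul_smul, (hgw.zpow_right i).eq, mul_smul, hwy]
  have hwcore : w ∈ N.normalCore := fun a => by
    have := QuotientGroup.eq.1 (hwtriv ((a⁻¹ : Γ) : Γ ⧸ N)).symm
    simpa [mul_assoc] using this
  rcases (Subgroup.normalCore_normal N).eq_bot_or_eq_top with h | h
  · rw [h, Subgroup.mem_bot] at hwcore
    rw [hwcore, orderOf_one] at how
    norm_num at how
  · have := Subgroup.normalCore_le N
    rw [h, top_le_iff] at this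
    rw [this, Subgroup.index_top] at h20
    norm_num at h20

end Cfsg.Agent.J1Weak
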