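import Cfsg.Agent.Lib.CentralTwoAlt.Five

/-!
# Facts about `C₂ × A₅` used for the weak closure hypothesis
-/

set_option autoImplicit false
set_option linter.all false
set_option maxRecDepth 100000
set_option synthInstance.maxHeartbeats 200000

namespace Cfsg.Agent.J1Weak

open Equiv Cfsg.Agent.CentralTwoAlt

/-- The model. -/
abbrev K5 : Type := Model 5

def b1 : K5 := (1, p5.1)
def b2 : K5 := (1, p5.2.1)
def xK : K5 := xx p5
def τK : K5 := tau 5

/-- An element outside the normalizer of the four-group, determined by its relations with it. -/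
def y0 : K5 :=
  (1, ⟨swap 0 1 * swap 3 4, by rw [Perm.mem_alternatingGroup]; decide +kernel⟩)

theorem y0_unique : ∀ y : K5,
    (decide (y * y = 1) && decide (b1 * y * (b1 * y) * (b1 * y) = 1) && decide (xK * y * (xK * y) = 1) &&
      decide ((b2 * y) * (b2 * y) * (b2 * y) * (b2 * y) * (b2 * y) = 1)) = decide (y = y0) := by
  decide +kernel

/-- The normalizer of the four-group. -/
def A4list : List K5 :=
  ([1, b1, b2, b1 * b2] : List K5).flatMap fun v => ([1, xK, xK * xK] : List K5).flatMap fun w =>
    [v * w, τK * (v * w)]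

theorem A4_words : ∀ k : K5, (A4list.contains k || A4list.any fun p => A4list.contains (y0⁻¹ * p⁻¹ * k)) = true := by
  decide +kernel

/-- A homomorphism on the model is determined by its values on five elements. -/
theorem hom_ext {H : Type*} [Group H] {f g : K5 →* H} (h1 : f b1 = g b1) (h2 : f b2 = g b2)
    (hx : f xK = g xK) (hy : f y0 = g y0) (hτ : f τK = g τK) : f = g := by
  let E : Subgroup K5 := f.eqLocus g
  have hl : ∀ p ∈ A4list, p ∈ E := by
    intro p hp
    have e1 : b1 ∈ E := h1
    have e2 : b2 ∈ E := h2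
    have e3 : xK ∈ E := hx
    have e4 : τK ∈ E := hτ
    simp only [A4list, List.flatMap_cons, List.flatMap_nil, List.append_nil, List.mem_append, List.mem_cons,
      List.not_mem_nil, or_false] at hp
    rcases hp with hp | hp | hp | hp <;> rcases hp with hp | hp | hp <;> rcases hp with rfl | rfl <;>
      first
      | exact mul_mem (by first | exact one_mem _ | exact e1 | exact e2 | exact mul_mem e1 e2)
          (by first | exact one_mem _ | exact e3 | exact mul_mem e3 e3)
      | exact mul_mem e4 (mul_mem (by first | exact one_mem _ | exact e1 | exact e2 | exact mul_mem e1 e2)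
          (by first | exact one_mem _ | exact e3 | exact mul_mem e3 e3))
  refine MonoidHom.ext fun k => ?_
  have h := A4_words k
  simp only [Bool.or_eq_true, List.contains_iff_mem, List.any_eq_true] at h
  rcases h with h | ⟨p, hp, hq⟩
  · exact hl k h
  · have : k ∈ E := by
      have := mul_mem (mul_mem (hl p hp) (show y0 ∈ E from hy)) (hl _ hq)
      rwa [show p * y0 * (y0⁻¹ * p⁻¹ * k) = k by group] at this
    exact this

theorem sd_list : ∀ k : K5, decide (k ∈ sd p5) =
    ([1, b1, b2, b1 * b2, τK, τK * b1, τK * b2, τK * (b1 * b2)] : List K5).contains k := by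
  decide +kernel

/-- The standard subgroup is generated by the central involution and one orbit of the element of order three. -/
theorem sd_gen : ∀ k : K5, (!decide (k ∈ sd p5) || decide (k = 1) || decide (k = τK) ||
    ([b1, b2] : List K5).all fun a =>
      ([1, k, xK * k * xK⁻¹, k * (xK * k * xK⁻¹), τK, τK * k, τK * (xK * k * xK⁻¹),
        τK * (k * (xK * k * xK⁻¹))] : List K5).contains a) = true := by
  decide +kernel

/-- The elements acting on the standard subgroup like `xK`. -/
theorem like_x : ∀ y : K5,
    (decide (y * y * y = 1) && decide (y * b1 * y⁻¹ = xK * b1 * xK⁻¹) && decide (y * b2 * y⁻¹ = xK * b2 * xK⁻¹)) = true →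
      ([1, b1, b2, b1 * b2] : List K5).any (fun v => decide (v * xK * v⁻¹ = y)) = true := by
  decide +kernel

theorem four_commutators : ([b1, b2] : List K5).all (fun v =>
    ([b1, b2, b1 * b2] : List K5).any fun w => decide (xK * w * xK⁻¹ * w⁻¹ = v)) = true := by
  decide +kernel

theorem sd_fst : ∀ k : K5, (!decide (k ∈ sd p5) || !decide (k.1 = 1) ||
    ([1, b1, b2, b1 * b2] : List K5).contains k) = true := by
  decide +kernel

theorem x_cycle : xK * b1 * xK⁻¹ ≠ b1 ∧ xK * xK * b1 * (xK * xK)⁻¹ ≠ b1 ∧
    xK * xK * b1 * (xK * xK)⁻¹ ≠ xK * b1 * xK⁻¹ ∧ b1 ≠ 1 ∧ b2 ≠ 1 ∧ b1 ≠ τK ∧ b1 ≠ b2 := by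
  decide +kernel

theorem center_K : ∀ k : K5, (decide (k = 1) || decide (k = τK) ||
    ([b1, b2, xK, y0] : List K5).any fun g => !decide (k * g = g * k)) = true := by
  decide +kernel

theorem card_sd : (sd p5).card = 8 := std5.card

end Cfsg.Agent.J1Weak
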