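import Cfsg.Agent.Lib.J1Weak.Centralizer

/-!
# `C(E) = E × R₀` and `C(t) = W × H`
-/

set_option autoImplicit false
set_option linter.all false
set_option maxRecDepth 100000
set_option synthInstance.maxHeartbeats 200000

namespace Cfsg.Agent.J1Weak

open Cfsg.Agent.Involutions.Basic Cfsg.Agent.CentralTwoAlt

namespace WC

universe u

variable {G : Type u} [Group G] [Finite G] (c : WC G)

/-- The common centralizer of the seven weak closures around `E`. -/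
def R₀ : Subgroup G := ⨅ n ∈ c.NE, c.R.map (MulAut.conj n).toMonoidHom

theorem mem_R₀ {g : G} : g ∈ c.R₀ ↔ ∀ n ∈ c.NE, n⁻¹ * g * n ∈ c.R := by
  simp only [R₀, Subgroup.mem_iInf, Subgroup.mem_map]
  refine forall₂_congr fun n _ => ⟨?_, fun h => ⟨_, h, ?_⟩⟩
  · rintro ⟨a, ha, rfl⟩
    show n⁻¹ * (n * a * n⁻¹) * n ∈ c.R
    rwa [show n⁻¹ * (n * a * n⁻¹) * n = a by group]
  · show n * (n⁻¹ * g * n) * n⁻¹ = g
    group

theorem R₀_le_R : c.R₀ ≤ c.R := fun g hg => by simpa using c.mem_R₀.1 hg 1 (one_mem _)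

theorem R₀_conj {n g : G} (hn : n ∈ c.NE) (hg : g ∈ c.R₀) : n * g * n⁻¹ ∈ c.R₀ := by
  refine c.mem_R₀.2 fun m hm => ?_
  have := c.mem_R₀.1 hg (n⁻¹ * m) (mul_mem (inv_mem hn) hm)
  rwa [show (n⁻¹ * m)⁻¹ * g * (n⁻¹ * m) = m⁻¹ * (n * g * n⁻¹) * m by group] at this

theorem exists_moving : ∃ n ∈ c.NE, n * c.t * n⁻¹ ≠ c.t := by
  have hne : c.φ b1 ≠ 1 := fun h => x_cycle.2.2.2.1 (c.inj (h.trans (map_one _).symm))
  obtain ⟨n, hn, e⟩ := c.transitive (c.φ b1) ⟨b1, by decide +kernel, rfl⟩ hne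
  exact ⟨n, hn, fun h => x_cycle.2.2.2.2.2.1 (c.inj (by rw [c.phi_tau, ← e, h]))⟩

theorem W_R₀ {k : K5} (h : c.φ k ∈ c.R₀) : k = 1 := by
  rcases c.W_R (c.R₀_le_R h) with h' | rfl
  · exact h'
  exfalso
  obtain ⟨n, hn, hne⟩ := c.exists_moving
  rw [c.phi_tau] at h
  have h1 := c.mem_R₀.1 h n hn
  obtain ⟨a, ha, hae⟩ := c.NE_E' hn c.t_mem_E
  rw [← hae] at h1
  rcases c.W_R h1 with rfl | rfl
  · rw [map_one] at hae
    exact ne_one c.orderOf_t (by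
      calc c.t = n * (n⁻¹ * c.t * n) * n⁻¹ := by group
        _ = 1 := by rw [← hae]; group)
  · rw [c.phi_tau] at hae
    exact hne (by
      calc n * c.t * n⁻¹ = n * (n⁻¹ * c.t * n) * n⁻¹ := by rw [← hae]
        _ = c.t := by group)

theorem E_R₀ {g : G} (hgE : g ∈ c.E) (h : g ∈ c.R₀) : g = 1 := by
  obtain ⟨k, -, rfl⟩ := hgE
  rw [c.W_R₀ h, map_one]

theorem commutator_R₀ {p q : G} (hp : p ∈ c.CE) (hq : q ∈ c.CE) : p * q * p⁻¹ * q⁻¹ ∈ c.R₀ := by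
  refine c.mem_R₀.2 fun n hn => ?_
  obtain ⟨e, he, her⟩ := c.CE_decomp (c.CE_conj hn hp)
  obtain ⟨f, hf, hfr⟩ := c.CE_decomp (c.CE_conj hn hq)
  have hcp := c.mem_CE.1 (c.CE_conj hn hp)
  have hcq := c.mem_CE.1 (c.CE_conj hn hq)
  set p' := n⁻¹ * p * n with hp'
  set q' := n⁻¹ * q * n with hq'
  set r := e⁻¹ * p' with hr
  set s := f⁻¹ * q' with hs
  have hre : Commute r f := (c.comm_E he hf).inv_left.mul_left (hcp f hf)
  have hse : Commute s e := (c.comm_E hf he).inv_left.mul_left (hcq e he)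
  have hef : Commute e f := c.comm_E he hf
  rw [show n⁻¹ * (p * q * p⁻¹ * q⁻¹) * n = p' * q' * p'⁻¹ * q'⁻¹ by rw [hp', hq']; group,
    show p' = e * r by rw [hr]; group, show q' = f * s by rw [hs]; group]
  have key : e * r * (f * s) * (e * r)⁻¹ * (f * s)⁻¹ = r * s * r⁻¹ * s⁻¹ := by
    calc e * r * (f * s) * (e * r)⁻¹ * (f * s)⁻¹
        = e * (r * f) * s * r⁻¹ * e⁻¹ * s⁻¹ * f⁻¹ := by group
      _ = e * (f * r) * s * r⁻¹ * (e⁻¹ * s⁻¹) * f⁻¹ := by rw [hre.eq]; group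
      _ = e * f * (r * s * r⁻¹ * s⁻¹) * e⁻¹ * f⁻¹ := by rw [hse.symm.inv_left.inv_right.eq]; group
      _ = r * s * r⁻¹ * s⁻¹ * (e * f) * e⁻¹ * f⁻¹ := by
          have her' : Commute r e := (Commute.refl e).inv_left.mul_left (hcp e he)
          have hsf' : Commute s f := (Commute.refl f).inv_left.mul_left (hcq f hf)
          have h1 : Commute (r * s * r⁻¹ * s⁻¹) (e * f) := by
            refine Commute.mul_right ?_ ?_
            · exact ((her'.mul_left hse).mul_left her'.inv_left).mul_left hse.inv_left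
            · exact ((hre.mul_left hsf').mul_left hre.inv_left).mul_left hsf'.inv_left
          rw [h1.eq]
      _ = _ := by rw [hef.eq]; group
  rw [key]
  exact mul_mem (mul_mem (mul_mem her hfr) (inv_mem her)) (inv_mem hfr)

/-- The elements of the normalizer acting trivially on `C(E)` modulo `E`. -/
def Γ : Subgroup G where
  carrier := {n | n ∈ c.NE ∧ ∀ q ∈ c.CE, q⁻¹ * (n * q * n⁻¹) ∈ c.E}
  one_mem' := ⟨one_mem _, fun q _ => by simp⟩
  mul_mem' := by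
    rintro n m ⟨hn, hn'⟩ ⟨hm, hm'⟩
    refine ⟨mul_mem hn hm, fun q hq => ?_⟩
    rw [show q⁻¹ * (n * m * q * (n * m)⁻¹) =
      q⁻¹ * (n * q * n⁻¹) * (n * (q⁻¹ * (m * q * m⁻¹)) * n⁻¹) by group]
    exact mul_mem (hn' q hq) (c.NE_E hn (hm' q hq))
  inv_mem' := by
    rintro n ⟨hn, hn'⟩
    refine ⟨inv_mem hn, fun q hq => ?_⟩
    have hq' : n⁻¹ * q * n ∈ c.CE := c.CE_conj hn hq
    have h := hn' _ hq'
    set e := (n⁻¹ * q * n)⁻¹ * (n * (n⁻¹ * q * n) * n⁻¹) with he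
    have h2 : q⁻¹ * (n⁻¹ * q * n⁻¹⁻¹) = e⁻¹ := by rw [he]; group
    rw [h2]
    exact inv_mem h

theorem X_mem_Γ {n : G} (hn : n ∈ c.NE) : n * c.φ xK * n⁻¹ ∈ c.Γ := by
  refine ⟨mul_mem (mul_mem hn c.xE_normalizer) (inv_mem hn), fun q hq => ?_⟩
  obtain ⟨e, he, her⟩ := c.CE_decomp (c.CE_conj hn hq)
  set q' := n⁻¹ * q * n with hq'
  set r := e⁻¹ * q' with hr
  have hx : c.φ xK * r * (c.φ xK)⁻¹ = r := mul_inv_eq_iff_eq_mul.2 (c.mem_R.1 her xK).symm.eq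
  have hrw : q⁻¹ * (n * c.φ xK * n⁻¹ * q * (n * c.φ xK * n⁻¹)⁻¹) =
      n * (q'⁻¹ * (c.φ xK * e * (c.φ xK)⁻¹ * (c.φ xK * r * (c.φ xK)⁻¹))) * n⁻¹ := by rw [hr, hq']; group
  rw [hrw, hx, show r = e⁻¹ * q' from hr]
  have hc := c.mem_CE.1 (c.CE_conj hn hq)
  have hE := mul_mem (c.phi_x_normalizes he) (inv_mem he)
  have : q'⁻¹ * (c.φ xK * e * (c.φ xK)⁻¹ * (e⁻¹ * q')) = c.φ xK * e * (c.φ xK)⁻¹ * e⁻¹ := by
    calc q'⁻¹ * (c.φ xK * e * (c.φ xK)⁻¹ * (e⁻¹ * q'))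
        = q'⁻¹ * ((c.φ xK * e * (c.φ xK)⁻¹ * e⁻¹) * q') := by group
      _ = q'⁻¹ * (q' * (c.φ xK * e * (c.φ xK)⁻¹ * e⁻¹)) := by rw [(hc _ hE).eq]
      _ = _ := by group
  rw [this]
  exact c.NE_E hn hE

/-- The action on `E`. -/
def act : c.Γ →* MulAut c.E :=
  c.E.normalizerMonoidHom.comp (Subgroup.inclusion (fun _ h => h.1 : c.Γ ≤ Subgroup.normalizer (c.E : Set G)))

theorem act_ker {n : c.Γ} : n ∈ c.act.ker ↔ (n : G) ∈ c.CE := by
  rw [MonoidHom.mem_ker, c.mem_CE]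
  constructor
  · intro h e he
    have := congrArg Subtype.val (DFunLike.congr_fun h (⟨e, he⟩ : c.E))
    exact mul_inv_eq_iff_eq_mul.1 this
  · intro h
    refine MulEquiv.ext fun e => Subtype.ext ?_
    exact mul_inv_eq_iff_eq_mul.2 (h e e.2).eq

theorem odd_act : Odd c.act.ker.index := by
  haveI : Fact (Nat.Prime 2) := ⟨Nat.prime_two⟩
  let ρ : c.NE →* MulAut c.E := c.E.normalizerMonoidHom
  have h1 : Nat.card c.act.range ∣ Nat.card ρ.range := Subgroup.card_dvd_of_le (by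
    rintro _ ⟨n, rfl⟩
    exact ⟨_, rfl⟩)
  have h2 : (c.S : Subgroup G).subgroupOf c.NE ≤ ρ.ker := fun n hn => by
    rw [MonoidHom.mem_ker]
    refine MulEquiv.ext fun e => Subtype.ext ?_
    exact mul_inv_eq_iff_eq_mul.2 (c.mem_CE.1 (c.S_le_CE hn) e e.2).eq
  have h3 : ρ.ker.index ∣ (c.S : Subgroup G).index :=
    (Subgroup.index_dvd_of_le h2).trans (Subgroup.relIndex_dvd_index_of_le c.S_le_normalizer)
  rw [← Subgroup.index_ker] at h1
  rw [← Subgroup.index_ker] at h1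
  rw [← Nat.not_even_iff_odd, even_iff_two_dvd]
  exact fun h => c.S.not_dvd_index (h.trans (h1.trans h3))

/-- `C(E) = E R₀`. -/
theorem CE_eq {q : G} (hq : q ∈ c.CE) : ∃ e ∈ c.E, q * e ∈ c.R₀ := by
  classical
  letI : CommGroup c.E :=
    { (inferInstance : Group c.E) with mul_comm := fun a b => Subtype.ext (c.comm_E a.2 b.2).eq }
  haveI := Fintype.ofFinite (c.Γ ⧸ c.act.ker)
  let f : c.Γ → c.E := fun n => ⟨q⁻¹ * ((n : G) * q * (n : G)⁻¹), n.2.2 q hq⟩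
  have hmul : ∀ n m : c.Γ, f (n * m) = f n * c.act n (f m) := fun n m => Subtype.ext (by
    show q⁻¹ * ((n : G) * m * q * ((n : G) * m)⁻¹) =
      q⁻¹ * ((n : G) * q * (n : G)⁻¹) * ((n : G) * (q⁻¹ * ((m : G) * q * (m : G)⁻¹)) * (n : G)⁻¹)
    group)
  have hker : ∀ m ∈ c.act.ker, f m = 1 := fun m hm => by
    have h1 := c.commutator_R₀ (inv_mem hq) (c.act_ker.1 hm)
    refine Subtype.ext (c.E_R₀ (f m).2 ?_)
    show q⁻¹ * ((m : G) * q * (m : G)⁻¹) ∈ c.R₀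
    rwa [show q⁻¹ * ((m : G) * q * (m : G)⁻¹) = q⁻¹ * m * q⁻¹⁻¹ * (m : G)⁻¹ by group]
  have hout : ∀ (n : c.Γ) (C : c.Γ ⧸ c.act.ker), f (n * C.out) = f (n • C).out := by
    intro n C
    have hC : (n • C).out⁻¹ * (n * C.out) ∈ c.act.ker := by
      rw [← QuotientGroup.eq, QuotientGroup.out_eq']
      conv_lhs => rw [← QuotientGroup.out_eq' C]
      rfl
    have := hmul (n • C).out ((n • C).out⁻¹ * (n * C.out))
    rw [mul_inv_cancel_left, hker _ hC, map_one, mul_one] at this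
    exact this
  let P : c.E := ∏ C : c.Γ ⧸ c.act.ker, f C.out
  have hsq : ∀ e : c.E, e * e = 1 := fun e => Subtype.ext (c.sq_E e.2)
  have key : ∀ n : c.Γ, f n = P * c.act n P := by
    intro n
    have h1 : P = f n ^ Fintype.card (c.Γ ⧸ c.act.ker) * c.act n P := by
      calc P = ∏ C : c.Γ ⧸ c.act.ker, f (n • C).out :=
            ((MulAction.bijective n).prod_comp fun C : c.Γ ⧸ c.act.ker => f C.out).symm
        _ = ∏ C : c.Γ ⧸ c.act.ker, (f n * c.act n (f C.out)) :=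
            Finset.prod_congr rfl fun C _ => by rw [← hout, hmul]
        _ = _ := by rw [Finset.prod_mul_distrib, Finset.prod_const, Finset.card_univ, map_prod]
    obtain ⟨m, hm⟩ : Odd (Fintype.card (c.Γ ⧸ c.act.ker)) := by
      rw [← Nat.card_eq_fintype_card, ← Subgroup.index_eq_card]; exact c.odd_act
    rw [hm, pow_succ, pow_mul, sq, hsq, one_pow, one_mul] at h1
    calc f n = f n * (c.act n P * c.act n P) := by rw [hsq, mul_one]
      _ = f n * c.act n P * c.act n P := by group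
      _ = _ := by rw [← h1]
  have hfix : ∀ n : c.Γ, (n : G) * (q * P) * (n : G)⁻¹ = q * P := fun n => by
    have h1 : q⁻¹ * ((n : G) * q * (n : G)⁻¹) = (P : G) * ((c.act n P : c.E) : G) :=
      congrArg Subtype.val (key n)
    have h2 : ((c.act n P : c.E) : G) * ((c.act n P : c.E) : G) = 1 := c.sq_E (c.act n P).2
    calc (n : G) * (q * P) * (n : G)⁻¹ = q * (q⁻¹ * ((n : G) * q * (n : G)⁻¹)) * ((c.act n P : c.E) : G) := by
          show _ = _ * ((n : G) * P * (n : G)⁻¹)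
          group
      _ = q * P * (((c.act n P : c.E) : G) * ((c.act n P : c.E) : G)) := by rw [h1]; group
      _ = _ := by rw [h2, mul_one]
  refine ⟨P, P.2, c.mem_R₀.2 fun n hn => ?_⟩
  have hmem : q * P ∈ c.CE := mul_mem hq (c.mem_CE.2 fun e he => c.comm_E P.2 he)
  obtain ⟨e, he, her⟩ := c.CE_decomp (c.CE_conj hn hmem)
  set w := n⁻¹ * (q * P) * n with hw
  have hwx : Commute w (c.φ xK) := by
    have := hfix ⟨_, c.X_mem_Γ hn⟩
    show w * c.φ xK = c.φ xK * w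
    calc w * c.φ xK = n⁻¹ * (q * P) * n * c.φ xK := rfl
      _ = n⁻¹ * ((n * c.φ xK * n⁻¹) * (q * P) * (n * c.φ xK * n⁻¹)⁻¹) * n * c.φ xK := by rw [this]
      _ = _ := by rw [hw]; group
  have hxe : Commute (c.φ xK) e := by
    have hr : Commute (e⁻¹ * w) (c.φ xK) := c.mem_R.1 her xK
    have := (hwx.mul_left hr.inv_left).symm
    rwa [show w * (e⁻¹ * w)⁻¹ = e by group] at this
  obtain ⟨k, hk, rfl⟩ := he
  have hkx : xK * k * xK⁻¹ = k := c.inj (by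
    rw [map_mul, map_mul, map_inv]; exact mul_inv_eq_iff_eq_mul.2 hxe.eq)
  have heR : c.φ k ∈ c.R := by
    rcases std5.fix k hk hkx with rfl | rfl
    · rw [map_one]; exact one_mem _
    · rw [show c.φ (tau 5) = c.t from c.phi_tau]; exact c.t_mem_R
  have := mul_mem heR her
  rwa [mul_inv_cancel_left] at this

/-- The class-invariant complement `H(x)` of the weak closure of `x`. -/
def H (x : G) : Subgroup G :=
  Subgroup.centralizer {y : G | y ∈ c.X ∧ ∃ z ∈ c.X, Commute x z ∧ Commute z y}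

theorem mem_H {x g : G} :
    g ∈ c.H x ↔ ∀ y ∈ c.X, ∀ z ∈ c.X, Commute x z → Commute z y → Commute g y :=
  ⟨fun h y hy z hz h1 h2 => (h y ⟨hy, z, hz, h1, h2⟩).symm,
    fun h y ⟨hy, z, hz, h1, h2⟩ => (h y hy z hz h1 h2).symm.eq⟩

theorem H_conj {x h : G} (g : G) (hh : h ∈ c.H x) : g * h * g⁻¹ ∈ c.H (g * x * g⁻¹) := by
  refine c.mem_H.2 fun y hy z hz h1 h2 => ?_
  have e : ∀ a b : G, Commute a b → Commute (g⁻¹ * a * g) (g⁻¹ * b * g) := fun a b hab => by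
    show g⁻¹ * a * g * (g⁻¹ * b * g) = g⁻¹ * b * g * (g⁻¹ * a * g)
    calc g⁻¹ * a * g * (g⁻¹ * b * g) = g⁻¹ * (a * b) * g := by group
      _ = g⁻¹ * (b * a) * g := by rw [hab.eq]
      _ = _ := by group
  have hX : ∀ a ∈ c.X, g⁻¹ * a * g ∈ c.X := fun a ha => by simpa using c.conj_mem_X g⁻¹ ha
  have := c.mem_H.1 hh _ (hX y hy) _ (hX z hz)
    (by have := e _ _ h1; rwa [show g⁻¹ * (g * x * g⁻¹) * g = x by group] at this) (e _ _ h2)
  show g * h * g⁻¹ * y = y * (g * h * g⁻¹)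
  calc g * h * g⁻¹ * y = g * (h * (g⁻¹ * y * g)) * g⁻¹ := by group
    _ = g * (g⁻¹ * y * g * h) * g⁻¹ := by rw [this.eq]
    _ = _ := by group

theorem H_t : c.H c.t = c.R₀ := by
  ext h
  rw [c.mem_H]
  constructor
  · intro hh
    refine c.mem_R₀.2 fun n hn => c.mem_R.2 fun k => ?_
    have hle : c.φ.range ≤ Subgroup.centralizer ({n⁻¹ * h * n} : Set G) := by
      rw [c.range, Subgroup.closure_le]
      rintro z ⟨g, rfl, hz⟩
      have hX : n * (g * c.t * g⁻¹) * n⁻¹ ∈ c.X := c.conj_mem_X n ⟨g, rfl⟩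
      obtain ⟨a, ha, hae⟩ := c.NE_E hn c.t_mem_E
      have h1 : Commute c.t (n * c.t * n⁻¹) := (c.comm_E c.t_mem_E ⟨a, ha, hae⟩)
      have h2 : Commute (n * c.t * n⁻¹) (n * (g * c.t * g⁻¹) * n⁻¹) := by
        have hz' : Commute c.t (g * c.t * g⁻¹) := hz.symm
        exact hz'.map (MulAut.conj n).toMonoidHom
      have h3 := hh _ hX _ (c.conj_mem_X n c.t_mem_X) h1 h2
      refine Subgroup.mem_centralizer_singleton_iff.2 ?_
      show g * c.t * g⁻¹ * (n⁻¹ * h * n) = n⁻¹ * h * n * (g * c.t * g⁻¹)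
      calc g * c.t * g⁻¹ * (n⁻¹ * h * n) = n⁻¹ * (n * (g * c.t * g⁻¹) * n⁻¹ * h) * n := by group
        _ = n⁻¹ * (h * (n * (g * c.t * g⁻¹) * n⁻¹)) * n := by rw [h3.eq]
        _ = _ := by group
    exact (Subgroup.mem_centralizer_singleton_iff.1 (hle ⟨k, rfl⟩)).symm
  · intro hh y hy z hz htz hzy
    obtain ⟨k, rfl⟩ := c.mem_W hz htz.symm
    have hk2 : k * k = 1 := c.inj (by rw [map_mul, map_one]; exact inv_sq_one (c.orderOf_X hz))
    obtain ⟨d, hd⟩ := std5.invConj k hk2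
    obtain ⟨n, hn, e⟩ := c.transitive (c.φ (d * k * d⁻¹)) ⟨_, hd, rfl⟩ (fun h => ne_one (c.orderOf_X hz) (by
      rw [map_mul, map_mul, map_inv, conj_eq_one_iff] at h; exact h))
    rw [map_mul, map_mul, map_inv] at e
    set g := n⁻¹ * c.φ d with hg
    have hgt : g * c.φ k * g⁻¹ = c.t := by
      rw [hg, show n⁻¹ * c.φ d * c.φ k * (n⁻¹ * c.φ d)⁻¹ = n⁻¹ * (c.φ d * c.φ k * (c.φ d)⁻¹) * n by group, ← e]
      group
    obtain ⟨j, hj⟩ := c.mem_W (c.conj_mem_X g hy) (by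
      rw [← hgt]
      exact hzy.symm.map (MulAut.conj g).toMonoidHom)
    have h1 := c.mem_R.1 (c.mem_R₀.1 hh n hn) j
    have h2 : Commute h (c.φ d) := c.mem_R.1 (c.R₀_le_R hh) d
    have h3 : Commute h ((c.φ d)⁻¹ * (n * c.φ j * n⁻¹) * c.φ d) := by
      refine (h2.inv_right.mul_right ?_).mul_right h2
      show h * (n * c.φ j * n⁻¹) = n * c.φ j * n⁻¹ * h
      calc h * (n * c.φ j * n⁻¹) = n * (n⁻¹ * h * n * c.φ j) * n⁻¹ := by group
        _ = n * (c.φ j * (n⁻¹ * h * n)) * n⁻¹ := by rw [h1.eq]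
        _ = _ := by group
    rwa [show (c.φ d)⁻¹ * (n * c.φ j * n⁻¹) * c.φ d = y by rw [hj, hg]; group] at h3

theorem H_map (g x : G) : (c.H x).map (MulAut.conj g).toMonoidHom = c.H (g * x * g⁻¹) := by
  ext h
  constructor
  · rintro ⟨a, ha, rfl⟩; exact c.H_conj g ha
  · intro hh
    have := c.H_conj g⁻¹ hh
    refine ⟨g⁻¹ * h * g, ?_, show g * (g⁻¹ * h * g) * g⁻¹ = h by group⟩
    rwa [inv_inv, show g⁻¹ * (g * x * g⁻¹) * g = x by group] at this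

theorem H_eq_of_commute {x y : G} (hx : x ∈ c.X) (hy : y ∈ c.X) (hxy : Commute x y) : c.H x = c.H y := by
  suffices h : ∀ y ∈ c.X, Commute c.t y → c.H y = c.H c.t by
    obtain ⟨g, rfl⟩ := hx
    have hg : Commute c.t (g⁻¹ * y * g) := by
      show c.t * (g⁻¹ * y * g) = g⁻¹ * y * g * c.t
      calc c.t * (g⁻¹ * y * g) = g⁻¹ * (g * c.t * g⁻¹ * y) * g := by group
        _ = g⁻¹ * (y * (g * c.t * g⁻¹)) * g := by rw [hxy.eq]
        _ = _ := by group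
    have := congrArg (Subgroup.map (MulAut.conj g).toMonoidHom)
      (h _ (by simpa using c.conj_mem_X g⁻¹ hy) hg)
    rw [c.H_map, c.H_map, show g * (g⁻¹ * y * g) * g⁻¹ = y by group] at this
    exact this.symm
  intro y hy hty
  obtain ⟨k, rfl⟩ := c.mem_W hy hty.symm
  have hk2 : k * k = 1 := c.inj (by rw [map_mul, map_one]; exact inv_sq_one (c.orderOf_X hy))
  obtain ⟨d, hd⟩ := std5.invConj k hk2
  obtain ⟨n, hn, e⟩ := c.transitive (c.φ (d * k * d⁻¹)) ⟨_, hd, rfl⟩ (fun h => ne_one (c.orderOf_X hy) (by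
    rw [map_mul, map_mul, map_inv, conj_eq_one_iff] at h; exact h))
  rw [map_mul, map_mul, map_inv] at e
  have hk : c.φ k = ((c.φ d)⁻¹ * n) * c.t * ((c.φ d)⁻¹ * n)⁻¹ := by
    rw [show (c.φ d)⁻¹ * n * c.t * ((c.φ d)⁻¹ * n)⁻¹ = (c.φ d)⁻¹ * (n * c.t * n⁻¹) * c.φ d by group, e]
    group
  rw [hk, ← c.H_map, c.H_t]
  ext h
  constructor
  · rintro ⟨a, ha, rfl⟩
    show (c.φ d)⁻¹ * n * a * ((c.φ d)⁻¹ * n)⁻¹ ∈ c.R₀
    have hna := c.R₀_conj hn ha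
    have h2 : Commute (n * a * n⁻¹) (c.φ d) := c.mem_R.1 (c.R₀_le_R hna) d
    rwa [show (c.φ d)⁻¹ * n * a * ((c.φ d)⁻¹ * n)⁻¹ = (c.φ d)⁻¹ * (n * a * n⁻¹ * c.φ d) by group, h2.eq,
      inv_mul_cancel_left]
  · intro hh
    refine ⟨n⁻¹ * h * n, by simpa using c.R₀_conj (inv_mem hn) hh, ?_⟩
    show (c.φ d)⁻¹ * n * (n⁻¹ * h * n) * ((c.φ d)⁻¹ * n)⁻¹ = h
    have h2 : Commute h (c.φ d) := c.mem_R.1 (c.R₀_le_R hh) d
    calc (c.φ d)⁻¹ * n * (n⁻¹ * h * n) * ((c.φ d)⁻¹ * n)⁻¹ = (c.φ d)⁻¹ * (h * c.φ d) := by group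
      _ = h := by rw [h2.eq, inv_mul_cancel_left]

theorem W_H {k : K5} (h : c.φ k ∈ c.H c.t) : k = 1 := c.W_R₀ (c.H_t ▸ h)

theorem H_comm {h : G} (hh : h ∈ c.H c.t) (k : K5) : Commute h (c.φ k) :=
  c.mem_R.1 (c.R₀_le_R (c.H_t ▸ hh)) k

/-- `C(t) = W H`. -/
theorem decomp {g : G} (hg : Commute g c.t) : ∃ k : K5, ∃ h ∈ c.H c.t, g = c.φ k * h := by
  obtain ⟨k, hk⟩ := c.decomp_R hg
  have hCE : (c.φ k)⁻¹ * g ∈ c.CE := c.mem_CE.2 fun e he => by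
    obtain ⟨a, -, rfl⟩ := he
    exact c.mem_R.1 hk a
  obtain ⟨e, ⟨a, ha, rfl⟩, hea⟩ := c.CE_eq hCE
  refine ⟨k * a, _, c.H_t.symm ▸ hea, ?_⟩
  have h1 : Commute ((c.φ k)⁻¹ * g) (c.φ a) := c.mem_R.1 hk a
  rw [map_mul, h1.eq, show c.φ k * c.φ a * (c.φ a * ((c.φ k)⁻¹ * g)) = c.φ k * (c.φ a * c.φ a) * ((c.φ k)⁻¹ * g) by group,
    c.sq_E ⟨a, ha, rfl⟩]
  group

end WC

end Cfsg.Agent.J1Weak
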