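import Cfsg.Agent.Lib.J1Weak.Quotient
import Cfsg.Agent.Lib.J1Weak.Connected
import Cfsg.Agent.S2039

/-!
# The normal closure of `t` is the first Janko group
-/

set_option autoImplicit false
set_option linter.all false
set_option maxRecDepth 100000
set_option synthInstance.maxHeartbeats 200000

namespace Cfsg.Agent.J1Weak

open Cfsg.Agent.Involutions.Basic Cfsg.Agent.CentralTwoAlt Cfsg.Agent.Involutions.StronglyEmbedded MulAction
open scoped commutatorElement

universe u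

namespace WC

variable {G : Type u} [Group G] [Finite G] (c : WC G)

theorem H_odd (hK : c.K = ⊥) {h : G} (hh : h ∈ c.H c.t) (h2 : h * h = 1) : h = 1 := by
  by_contra h1
  have := c.mem_K.2 (c.pure_centralizes hh (orderOf_two_iff.2 ⟨h2, h1⟩))
  rw [hK, Subgroup.mem_bot] at this
  exact h1 this

/-- When `K = 1` all involutions are conjugate to `t`. -/
theorem involution_X (hK : c.K = ⊥) {i : G} (hi : orderOf i = 2) : i ∈ c.X := by
  haveI : Fact (Nat.Prime 2) := ⟨Nat.prime_two⟩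
  obtain ⟨P, hP⟩ := (IsPGroup.of_card (n := 1) (by rw [Nat.card_zpowers, hi, pow_one]) :
    IsPGroup 2 (Subgroup.zpowers i)).exists_le_sylow
  obtain ⟨g, hg⟩ := MulAction.exists_smul_eq G c.S P
  have h1 : i ∈ (P : Subgroup G) := hP (Subgroup.mem_zpowers i)
  rw [← hg, Sylow.coe_subgroup_smul] at h1
  obtain ⟨s, hs, rfl⟩ := h1
  change orderOf (g * s * g⁻¹) = 2 at hi
  rw [orderOf_conj] at hi
  refine c.conj_mem_X g ?_
  obtain ⟨k, r, hr, rfl⟩ := c.decomp (c.S_comm hs)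
  have hsq := inv_sq_one hi
  rw [show c.φ k * r * (c.φ k * r) = c.φ k * (r * c.φ k) * r by group, (c.H_comm hr k).eq,
    show c.φ k * (c.φ k * r) * r = c.φ (k * k) * (r * r) by rw [map_mul]; group] at hsq
  have hk : k * k = 1 := c.W_H (by
    rw [eq_inv_of_mul_eq_one_left hsq]
    exact inv_mem (mul_mem hr hr))
  rw [hk, map_one, one_mul] at hsq
  have hr1 : r = 1 := c.H_odd hK hr hsq
  rw [hr1, mul_one] at hi ⊢
  exact c.involution_W hk (fun h => ne_one hi (by rw [h, map_one]))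

theorem connected_of_K_bot (hK : c.K = ⊥) : ∀ x ∈ c.X, x ∈ c.Δ := by
  classical
  by_contra hcon
  push Not at hcon
  obtain ⟨x, hx, hxΔ⟩ := hcon
  have hxM : x ∉ c.M := fun h => hxΔ (c.mem_Δ_of_X_M hx h)
  have hse : Cfsg.IsStronglyEmbedded c.M := by
    refine of_conj (fun h => hxM (h ▸ Subgroup.mem_top x)) ?_ fun s hsM hs g hg => ?_
    · rw [even_iff_two_dvd, ← c.orderOf_t]
      exact Subgroup.orderOf_dvd_natCard _ (c.Δ_sub_M c.t_mem_Δ)
    · have hsΔ := c.mem_Δ_of_X_M (c.involution_X hK hs) hsM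
      have hgΔ : g * s * g⁻¹ ∈ c.Δ := c.mem_Δ_of_X_M (c.conj_mem_X g (c.Δ_sub_X hsΔ)) hg
      exact Relation.ReflTransGen.trans hgΔ (c.path_symm (c.path_conj g hsΔ))
  -- a subgroup of odd order transitive on the component
  have hxo : orderOf x = 2 := c.orderOf_X hx
  set o : G ⧸ c.M := ((1 : G) : G ⧸ c.M) with ho
  have hstab : ∀ g : G, g • o = o ↔ g ∈ c.M := fun g => by
    show ((g * 1 : G) : G ⧸ c.M) = _ ↔ _
    rw [ho, mul_one, QuotientGroup.eq, mul_one, inv_mem_iff]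
  set y := x • o with hy
  have hyo : y ≠ o := fun h => hxM ((hstab x).1 h)
  set D := c.M ⊓ stabilizer G y with hD
  have hDodd : Odd (Nat.card D) := by
    by_contra h
    rw [Nat.not_odd_iff_even] at h
    obtain ⟨i, hiD, hi⟩ := exists_involution_mem h
    exact hyo ((existsUnique_fixed hse hi).unique hiD.2 ((hstab i).2 hiD.1))
  have hΔinv : ∀ s, s ∈ c.Δ ↔ orderOf s = 2 ∧ s ∈ c.M :=
    fun s => ⟨fun h => ⟨c.orderOf_X (c.Δ_sub_X h), c.Δ_sub_M h⟩,
      fun h => c.mem_Δ_of_X_M (c.involution_X hK h.1) h.2⟩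
  have htrans : ∀ s ∈ c.Δ, ∃ d ∈ D, d * c.t * d⁻¹ = s := by
    intro s hs
    have hxy : x • y = o := by rw [hy, ← mul_smul, inv_sq_one hxo, one_smul]
    let f : {i : G // orderOf i = 2 ∧ i • o = y} → {i : G // orderOf i = 2 ∧ i ∈ c.M} := fun a =>
      ⟨(x * a.1) * c.t * (x * a.1)⁻¹, by rw [orderOf_conj, c.orderOf_t],
        (swap_map_mem (c.Δ_sub_M c.t_mem_Δ) (g := x) (by rw [← ho]; show x • o = ((x : G) : G ⧸ c.M); rw [ho]; show ((x * 1 : G) : G ⧸ c.M) = _; rw [mul_one]) hxo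
          (by rw [← ho, a.2.2, hy, ho]; show ((x * 1 : G) : G ⧸ c.M) = _; rw [mul_one])).2⟩
    have hf : Function.Bijective f := by
      refine (Nat.bijective_iff_injective_and_card f).2 ⟨?_, card_swap hse o y (Ne.symm hyo)⟩
      rintro ⟨a, ha, hay⟩ ⟨b, hb, hby⟩ h
      apply Subtype.ext
      refine swap_map_injective hse c.orderOf_t (c.Δ_sub_M c.t_mem_Δ) ha (fun haM => hyo ?_) hb
        (congrArg Subtype.val h)
      rw [← hay, (hstab a).2 haM]
    obtain ⟨⟨a, ha, hay⟩, hfa⟩ := hf.2 ⟨s, (hΔinv s).1 hs⟩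
    have hao : a • y = o := by rw [← hay, ← mul_smul, inv_sq_one ha, one_smul]
    refine ⟨x * a, ⟨(hstab _).1 (by rw [mul_smul, hay, hxy]), ?_⟩, congrArg Subtype.val hfa⟩
    show (x * a) • y = y
    rw [mul_smul, hao]
  -- pass to `M / H`
  set HM := (c.H c.t).subgroupOf c.M with hHM
  haveI : HM.Normal := ⟨fun a ha g => c.H_conj_M g.2 ha⟩
  let ι : K5 →* c.M := c.φ.codRestrict c.M c.W_le_M
  let φ' : K5 →* c.M ⧸ HM := (QuotientGroup.mk' HM).comp ι
  have hinj : Function.Injective φ' := by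
    rw [← MonoidHom.ker_eq_bot_iff, Subgroup.eq_bot_iff_forall]
    intro k hk
    exact c.W_H ((QuotientGroup.eq_one_iff (ι k)).1 hk)
  let tM : c.M := ⟨c.t, c.Δ_sub_M c.t_mem_Δ⟩
  have hrange : φ'.range = Subgroup.centralizer ({(tM : c.M ⧸ HM)} : Set (c.M ⧸ HM)) := by
    ext g'
    constructor
    · rintro ⟨k, rfl⟩
      refine Subgroup.mem_centralizer_singleton_iff.2 ?_
      exact congrArg (QuotientGroup.mk' HM) (Subtype.ext (c.W_comm k).eq : ι k * tM = tM * ι k)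
    · intro hg
      obtain ⟨g, rfl⟩ := QuotientGroup.mk_surjective g'
      have hgc := Subgroup.mem_centralizer_singleton_iff.1 hg
      rw [← QuotientGroup.mk_mul, ← QuotientGroup.mk_mul, QuotientGroup.eq] at hgc
      have hh : ((g : G) * c.t)⁻¹ * (c.t * g) ∈ c.H c.t := hgc
      have hXm : (g : G)⁻¹ * c.t * g ∈ c.Δ := by
        have := c.Δ_conj (inv_mem g.2) c.t_mem_Δ
        rwa [inv_inv] at this
      obtain ⟨r, hr, hrg⟩ : ∃ r ∈ c.H c.t, (g : G)⁻¹ * c.t * g = c.t * r :=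
        ⟨_, hh, by rw [mul_inv_rev, inv_eq c.orderOf_t,
          show c.t * (c.t * (g : G)⁻¹ * (c.t * g)) = (c.t * c.t) * ((g : G)⁻¹ * c.t * g) by group,
          inv_sq_one c.orderOf_t, one_mul]⟩
      obtain ⟨a, ha⟩ := c.mem_W (c.Δ_sub_X hXm) (by
        rw [hrg]; exact (Commute.refl c.t).mul_left (c.commute_H c.t_mem_Δ hr))
      have hr1 : r = 1 := by
        have h1 : c.φ (τK * a) = r := by
          rw [map_mul, c.phi_tau, ha, hrg, ← mul_assoc, inv_sq_one c.orderOf_t, one_mul]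
        have h2 : τK * a = 1 := c.W_H (by rw [h1]; exact hr)
        rw [← h1, h2, map_one]
      obtain ⟨k, h, hhH, e⟩ := c.decomp (g := (g : G)) (by
        rw [hr1, mul_one] at hrg
        show (g : G) * c.t = c.t * g
        calc (g : G) * c.t = (g : G) * ((g : G)⁻¹ * c.t * g) := by rw [hrg]
          _ = _ := by group)
      refine ⟨k, ?_⟩
      refine QuotientGroup.eq.2 ?_
      show (c.φ k)⁻¹ * (g : G) ∈ c.H c.t
      rwa [e, inv_mul_cancel_left]
  haveI : Fact (Nat.Prime 2) := ⟨Nat.prime_two⟩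
  have hSM : (c.S : Subgroup G) ≤ c.M := fun s hs => c.centralizer_le_M c.t_mem_Δ (c.S_comm hs)
  let SM : Sylow 2 c.M := c.S.subtype hSM
  have htwo : Cfsg.IsTwoCentralInvolution (tM : c.M ⧸ HM) := by
    refine ⟨orderOf_two_iff.2 ⟨?_, fun h => std5.tau.2 (c.W_H ?_)⟩,
      SM.mapSurjective (f := QuotientGroup.mk' HM) (QuotientGroup.mk'_surjective _), ?_, ?_⟩
    · rw [← QuotientGroup.mk_mul, show tM * tM = 1 from Subtype.ext (inv_sq_one c.orderOf_t), QuotientGroup.mk_one]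
    · show c.φ τK ∈ c.H c.t
      rw [c.phi_tau]
      exact (QuotientGroup.eq_one_iff tM).1 h
    · exact ⟨tM, c.E_le_S c.t_mem_E, rfl⟩
    · rintro _ ⟨s, hs, rfl⟩
      exact congrArg (QuotientGroup.mk' HM) (Subtype.ext (c.S_comm hs).eq : s * tM = tM * s)
  obtain ⟨n, hn, hne⟩ := c.exists_moving
  obtain ⟨a, ha, hae⟩ := c.NE_E hn c.t_mem_E
  have hnM : n ∈ c.M := c.mem_Δ_of_commute c.t_mem_Δ (c.conj_mem_X n c.t_mem_X) (c.comm_E c.t_mem_E ⟨a, ha, hae⟩)
  let cM : Ctx (c.M ⧸ HM) K5 := ⟨(tM : c.M ⧸ HM), φ', sd p5, tau 5, xx p5, std5, hinj, hrange,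
    congrArg (QuotientGroup.mk' HM) (Subtype.ext c.phi_tau : ι τK = tM), htwo,
    by rw [model_card.2]; norm_num, a, fun h => hne (by rw [← hae, h]; exact c.phi_tau), isConj_iff.2
      ⟨((⟨n, hnM⟩ : c.M) : c.M ⧸ HM),
        congrArg (QuotientGroup.mk' HM) (Subtype.ext hae.symm : (⟨n, hnM⟩ : c.M) * tM * ⟨n, hnM⟩⁻¹ = ι a)⟩⟩
  haveI := cM.isSimpleGroup
  let e : Subgroup.centralizer ({cM.J} : Set (c.M ⧸ HM)) ≃* J1Order.Alt.K :=
    (MulEquiv.subgroupCongr cM.range.symm).trans (MonoidHom.ofInjective cM.inj).symm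
  have hcard : Nat.card (c.M ⧸ HM) = 175560 := J1Order.Setup.card_eq ⟨cM.J, cM.two, e⟩
  -- the image of `D`
  set DM := (D.subgroupOf c.M).map (QuotientGroup.mk' HM) with hDM
  have hDModd : Odd (Nat.card DM) :=
    hDodd.of_dvd_nat ((Subgroup.card_map_dvd _ _).trans
      (by rw [Nat.card_congr (Subgroup.subgroupOfEquivOfLe inf_le_left).toEquiv]))
  set C' := Subgroup.centralizer ({cM.J} : Set (c.M ⧸ HM)) with hC'
  have hC'card : Nat.card C' = 120 := by
    rw [hC', cM.card_centralizer, model_card.2]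
  have hcover : ∀ g' : c.M ⧸ HM, ∃ d ∈ DM, d⁻¹ * g' ∈ C' := by
    intro g'
    obtain ⟨g, rfl⟩ := QuotientGroup.mk_surjective g'
    obtain ⟨d, hd, hdt⟩ := htrans ((g : G) * c.t * (g : G)⁻¹) (c.Δ_conj g.2 c.t_mem_Δ)
    refine ⟨((⟨d, hd.1⟩ : c.M) : c.M ⧸ HM), ⟨⟨d, hd.1⟩, hd, rfl⟩, ?_⟩
    refine Subgroup.mem_centralizer_singleton_iff.2 ?_
    refine congrArg (QuotientGroup.mk' HM) (Subtype.ext ?_ : (⟨d, hd.1⟩⁻¹ * g : c.M) * tM = tM * (⟨d, hd.1⟩⁻¹ * g))
    show d⁻¹ * (g : G) * c.t = c.t * (d⁻¹ * (g : G))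
    calc d⁻¹ * (g : G) * c.t = d⁻¹ * ((g : G) * c.t * (g : G)⁻¹) * g := by group
      _ = d⁻¹ * (d * c.t * d⁻¹) * g := by rw [hdt]
      _ = _ := by group
  haveI : IsPretransitive DM ((c.M ⧸ HM) ⧸ C') := by
    refine ⟨fun p q => ?_⟩
    obtain ⟨a', rfl⟩ := QuotientGroup.mk_surjective p
    obtain ⟨b', rfl⟩ := QuotientGroup.mk_surjective q
    obtain ⟨d, hd, hd'⟩ := hcover a'
    obtain ⟨e', he, he'⟩ := hcover b'
    refine ⟨⟨e', he⟩ * ⟨d, hd⟩⁻¹, QuotientGroup.eq.2 ?_⟩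
    show (e' * d⁻¹ * a')⁻¹ * b' ∈ C'
    rw [show (e' * d⁻¹ * a')⁻¹ * b' = (d⁻¹ * a')⁻¹ * (e'⁻¹ * b') by group]
    exact mul_mem (inv_mem hd') he'
  have h1463 : 1463 ∣ Nat.card DM := by
    have h1 := MulAction.index_stabilizer_of_transitive DM ((1 : c.M ⧸ HM) : (c.M ⧸ HM) ⧸ C')
    have h2 := C'.index_mul_card
    rw [hC'card, hcard, Subgroup.index_eq_card, ← h1] at h2
    have h3 := Subgroup.index_dvd_card (MulAction.stabilizer DM ((1 : c.M ⧸ HM) : (c.M ⧸ HM) ⧸ C'))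
    rwa [show (MulAction.stabilizer DM ((1 : c.M ⧸ HM) : (c.M ⧸ HM) ⧸ C')).index = 1463 by omega] at h3
  exact no_odd_1463 hcard DM hDModd h1463

theorem connected : ∀ x ∈ c.X, x ∈ c.Δ := c.quot_Δ (c.quot.connected_of_K_bot c.quot_K)

theorem H_le_K : c.H c.t ≤ c.K := fun _ hh => c.mem_K.2 fun x hx => c.commute_H (c.connected x hx) hh

/-- The context of the quotient by `K`. -/
theorem quot_range : ((QuotientGroup.mk' c.K).comp c.φ).range =
    Subgroup.centralizer ({(c.t : G ⧸ c.K)} : Set (G ⧸ c.K)) := by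
  ext g'
  constructor
  · rintro ⟨k, rfl⟩
    exact Subgroup.mem_centralizer_singleton_iff.2 ((c.W_comm k).map (QuotientGroup.mk' c.K)).eq
  · intro hg
    obtain ⟨g, rfl⟩ := QuotientGroup.mk_surjective g'
    have h1 := c.eq_of_mk (c.conj_mem_X g c.t_mem_X) c.t_mem_X (by
      rw [← QuotientGroup.eq]
      show ((g * c.t * g⁻¹ : G) : G ⧸ c.K) = (c.t : G ⧸ c.K)
      rw [QuotientGroup.mk_mul, QuotientGroup.mk_mul, QuotientGroup.mk_inv, mul_inv_eq_iff_eq_mul]
      exact Subgroup.mem_centralizer_singleton_iff.1 hg)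
    obtain ⟨k, h, hh, e⟩ := c.decomp (g := g) (mul_inv_eq_iff_eq_mul.1 h1)
    refine ⟨k, QuotientGroup.eq.2 ?_⟩
    show (c.φ k)⁻¹ * g ∈ c.K
    rw [e, inv_mul_cancel_left]
    exact c.H_le_K hh

theorem quot_iso : IsSimpleGroup (G ⧸ c.K) ∧ Cfsg.Spor.IsoJ1 (G ⧸ c.K) := by
  obtain ⟨n, hn, hne⟩ := c.exists_moving
  obtain ⟨a, ha, hae⟩ := c.NE_E hn c.t_mem_E
  let cQ : Ctx (G ⧸ c.K) K5 := ⟨(c.t : G ⧸ c.K), (QuotientGroup.mk' c.K).comp c.φ, sd p5, tau 5, xx p5, std5,
    c.quot.inj, c.quot_range, congrArg (QuotientGroup.mk' c.K) c.phi_tau, c.two_quot,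
    by rw [model_card.2]; norm_num, a, fun h => hne (by rw [← hae, h]; exact c.phi_tau),
    isConj_iff.2 ⟨(n : G ⧸ c.K), congrArg (QuotientGroup.mk' c.K) hae.symm⟩⟩
  exact ⟨cQ.isSimpleGroup, cQ.isoJ1⟩

theorem normalClosure_isoJ1 : Cfsg.Spor.IsoJ1 (Subgroup.normalClosure ({c.t} : Set G)) := by
  classical
  obtain ⟨hsimp, ⟨j⟩⟩ := c.quot_iso
  set L := Subgroup.normalClosure ({c.t} : Set G) with hL
  haveI : L.Normal := Subgroup.normalClosure_normal
  have htL : c.t ∈ L := Subgroup.subset_normalClosure (Set.mem_singleton _)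
  have hXL : ∀ x ∈ c.X, x ∈ L := by
    rintro x ⟨g, rfl⟩
    exact Subgroup.Normal.conj_mem inferInstance _ htL g
  let σ : L →* G ⧸ c.K := (QuotientGroup.mk' c.K).comp L.subtype
  have hsurj : Function.Surjective σ := by
    have hr : σ.range = L.map (QuotientGroup.mk' c.K) := by rw [MonoidHom.range_comp, Subgroup.range_subtype]
    haveI : (L.map (QuotientGroup.mk' c.K)).Normal :=
      Subgroup.Normal.map inferInstance _ (QuotientGroup.mk'_surjective _)
    rw [← MonoidHom.range_eq_top, hr]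
    refine (IsSimpleGroup.eq_bot_or_eq_top_of_normal _ inferInstance).resolve_left fun h => ?_
    have : (c.t : G ⧸ c.K) ∈ L.map (QuotientGroup.mk' c.K) := ⟨c.t, htL, rfl⟩
    rw [h, Subgroup.mem_bot] at this
    exact c.t_notMem_K ((QuotientGroup.eq_one_iff _).1 this)
  have hkc : σ.ker ≤ Subgroup.center L := by
    intro z hz
    have hzK : (z : G) ∈ c.K := (QuotientGroup.eq_one_iff (z : G)).1 hz
    refine Subgroup.mem_center_iff.2 fun w => Subtype.ext ?_
    have hle : L ≤ Subgroup.centralizer ({(z : G)} : Set G) := by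
      have h1 : L ≤ Subgroup.closure c.X := by
        rw [hL, Subgroup.normalClosure, Subgroup.closure_le]
        intro x hx
        obtain ⟨y, hy, hxy⟩ := Group.mem_conjugatesOfSet_iff.1 hx
        rw [Set.mem_singleton_iff] at hy
        subst hy
        obtain ⟨g, rfl⟩ := isConj_iff.1 hxy
        exact Subgroup.subset_closure ⟨g, rfl⟩
      refine h1.trans ((Subgroup.closure_le _).2 fun x hx => ?_)
      exact Subgroup.mem_centralizer_singleton_iff.2 (c.mem_K.1 hzK x hx).symm.eq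
    exact Subgroup.mem_centralizer_singleton_iff.1 (hle w.2)
  have hperf : commutator L = ⊤ := by
    haveI hn : ((commutator L).map L.subtype).Normal :=
      ConjAct.normal_of_characteristic_of_normal (H := L) (K := commutator L)
    have hb : c.φ b1 ∈ (commutator L).map L.subtype := by
      have hf := four_commutators
      simp only [List.all_eq_true, List.any_eq_true, decide_eq_true_eq] at hf
      obtain ⟨w, -, hw⟩ := hf b1 (by simp)
      have hW : c.φ.range ≤ L := by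
        rw [c.range, Subgroup.closure_le]
        rintro x ⟨g, rfl, -⟩
        exact hXL _ ⟨g, rfl⟩
      refine ⟨⁅(⟨c.φ xK, hW ⟨_, rfl⟩⟩ : L), ⟨c.φ w, hW ⟨_, rfl⟩⟩⁆,
        Subgroup.commutator_mem_commutator (Subgroup.mem_top _) (Subgroup.mem_top _), ?_⟩
      rw [← hw, map_mul, map_mul, map_mul, map_inv, map_inv]
      rfl
    obtain ⟨g, hg⟩ := c.E_mem_X ⟨b1, by decide +kernel, rfl⟩
      (fun h => x_cycle.2.2.2.1 (c.inj (h.trans (map_one _).symm)))
    have ht : c.t ∈ (commutator L).map L.subtype := by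
      have := hn.conj_mem _ hb g⁻¹
      rwa [← hg, show g⁻¹ * (g * c.t * g⁻¹) * g⁻¹⁻¹ = c.t by group] at this
    have hle : L ≤ (commutator L).map L.subtype :=
      Subgroup.normalClosure_le_normal (Set.singleton_subset_iff.2 ht)
    rw [eq_top_iff]
    intro l _
    obtain ⟨a, ha, e⟩ := hle l.2
    exact (Subtype.ext e : a = l) ▸ ha
  -- the multiplier of `J₁` is trivial
  have hmult := Cfsg.Agent.S2039.result
  let eS : Shrink.{0} L ≃* L := Shrink.mulEquiv
  let σ' : Shrink.{0} L →* Cfsg.Spor.J1 := (j.toMonoidHom.comp σ).comp eS.toMonoidHom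
  have hσ's : Function.Surjective σ' := j.surjective.comp (hsurj.comp eS.surjective)
  have hker : ∀ z, z ∈ σ'.ker ↔ eS z ∈ σ.ker := fun z =>
    ⟨fun h => j.injective (h.trans (map_one j).symm), fun h => (congrArg j h).trans (map_one j)⟩
  have hstem : Cfsg.IsStemExtension σ' := by
    refine ⟨hσ's, fun z hz => Subgroup.mem_center_iff.2 fun w => eS.injective ?_, fun z _ => ?_⟩
    · rw [map_mul, map_mul]
      exact Subgroup.mem_center_iff.1 (hkc ((hker z).1 hz)) (eS w)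
    · have h1 : eS z ∈ commutator L := hperf ▸ Subgroup.mem_top _
      have h2 : (commutator (Shrink.{0} L)).map eS.toMonoidHom = commutator L := by
        rw [commutator_def, Subgroup.map_commutator, Subgroup.map_top_of_surjective _ eS.surjective, ← commutator_def]
      rw [← h2] at h1
      obtain ⟨a, ha, e⟩ := h1
      exact eS.injective e ▸ ha
  obtain ⟨π, hπ⟩ := hmult.2 _ σ' hstem
  haveI : Subsingleton σ'.ker := ⟨fun a b => by
    obtain ⟨x, rfl⟩ := hπ a
    obtain ⟨y, rfl⟩ := hπ b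
    exact congrArg π (Subsingleton.elim x y)⟩
  have hinj : Function.Injective σ' := by
    rw [← MonoidHom.ker_eq_bot_iff, Subgroup.eq_bot_iff_forall]
    intro z hz
    exact congrArg Subtype.val (Subsingleton.elim (⟨z, hz⟩ : σ'.ker) 1)
  exact ⟨eS.symm.trans (MulEquiv.ofBijective σ' ⟨hinj, hσ's⟩)⟩

end WC

end Cfsg.Agent.J1Weak
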