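import Cfsg.Agent.Lib.J1Weak.Components

/-!
# Factoring out the centralizer of the class
-/

set_option autoImplicit false
set_option linter.all false
set_option maxRecDepth 100000
set_option synthInstance.maxHeartbeats 200000

namespace Cfsg.Agent.J1Weak

open Cfsg.Agent.Involutions.Basic Cfsg.Agent.CentralTwoAlt

namespace WC

universe u

variable {G : Type u} [Group G] [Finite G] (c : WC G)

/-- The centralizer of the class of `t`. -/
def K : Subgroup G := Subgroup.centralizer c.X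

theorem mem_K {g : G} : g ∈ c.K ↔ ∀ x ∈ c.X, Commute g x :=
  ⟨fun h x hx => (h x hx).symm, fun h x hx => (h x hx).symm.eq⟩

instance K_normal : c.K.Normal := ⟨fun k hk g => c.mem_K.2 fun x hx => by
  have h := (c.mem_K.1 hk _ (show g⁻¹ * x * g ∈ c.X by simpa using c.conj_mem_X g⁻¹ hx)).map
    (MulAut.conj g).toMonoidHom
  simpa [mul_assoc] using h⟩

theorem K_le_H : c.K ≤ c.H c.t := fun _ hk => c.mem_H.2 fun y hy _ _ _ _ => c.mem_K.1 hk y hy

/-- Members of the class congruent modulo `K` are equal. -/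
theorem eq_of_mk {x y : G} (hx : x ∈ c.X) (hy : y ∈ c.X) (h : x⁻¹ * y ∈ c.K) : x = y := by
  obtain ⟨g, rfl⟩ := hx
  set y' := g⁻¹ * y * g with hy'
  have hk : c.t * y' ∈ c.K := by
    have := Subgroup.Normal.conj_mem (c.K_normal) _ h g⁻¹
    rwa [show g⁻¹ * ((g * c.t * g⁻¹)⁻¹ * y) * g⁻¹⁻¹ = c.t⁻¹ * y' by rw [hy']; group, inv_eq c.orderOf_t] at this
  have hc : Commute y' c.t := by
    have h1 : Commute (c.t * (c.t * y')) c.t := (Commute.refl _).mul_left (c.mem_K.1 hk _ c.t_mem_X)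
    rwa [← mul_assoc, inv_sq_one c.orderOf_t, one_mul] at h1
  obtain ⟨a, ha⟩ := c.mem_W (by simpa [hy'] using c.conj_mem_X g⁻¹ hy) hc
  have : c.φ (τK * a) ∈ c.H c.t := by rw [map_mul, c.phi_tau, ha]; exact c.K_le_H hk
  have hτ : a = τK := by
    have h1 := c.W_H this
    have h2 : τK * τK = 1 := (std5.mul _ std5.tau.1 _ std5.tau.1).2.2
    calc a = τK * τK * a := by rw [h2, one_mul]
      _ = τK * (τK * a) := mul_assoc _ _ _
      _ = τK := by rw [h1, mul_one]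
  rw [hτ, c.phi_tau] at ha
  rw [ha, hy']; group

theorem commute_of_mk {x y : G} (hx : x ∈ c.X) (hy : y ∈ c.X)
    (h : Commute (x : G ⧸ c.K) (y : G ⧸ c.K)) : Commute x y := by
  have h1 := c.eq_of_mk (c.conj_mem_X x hy) hy (by
    rw [← QuotientGroup.eq]
    show ((x * y * x⁻¹ : G) : G ⧸ c.K) = (y : G ⧸ c.K)
    rw [QuotientGroup.mk_mul, QuotientGroup.mk_mul, QuotientGroup.mk_inv, mul_inv_eq_iff_eq_mul]
    exact h.eq)
  exact mul_inv_eq_iff_eq_mul.1 h1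

theorem t_notMem_K : c.t ∉ c.K := fun h => by
  have := c.W_H (show c.φ τK ∈ c.H c.t by rw [c.phi_tau]; exact c.K_le_H h)
  exact std5.tau.2 this

theorem mk_injective {k : K5} (h : c.φ k ∈ c.K) : k = 1 := c.W_H (c.K_le_H h)

theorem two_quot : Cfsg.IsTwoCentralInvolution (c.t : G ⧸ c.K) := by
  haveI : Fact (Nat.Prime 2) := ⟨Nat.prime_two⟩
  refine ⟨orderOf_two_iff.2 ⟨?_, fun h => c.t_notMem_K ((QuotientGroup.eq_one_iff _).1 h)⟩,
    c.S.mapSurjective (f := QuotientGroup.mk' c.K) (QuotientGroup.mk'_surjective _), ?_, ?_⟩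
  · rw [← QuotientGroup.mk_mul, inv_sq_one c.orderOf_t, QuotientGroup.mk_one]
  · exact ⟨c.t, c.E_le_S c.t_mem_E, rfl⟩
  · rintro _ ⟨s, hs, rfl⟩
    exact (c.S_comm hs).map (QuotientGroup.mk' c.K)

theorem range_quot : ((QuotientGroup.mk' c.K).comp c.φ).range =
    Subgroup.closure {x : G ⧸ c.K | ∃ g : G ⧸ c.K, x = g * (c.t : G ⧸ c.K) * g⁻¹ ∧
      x * (c.t : G ⧸ c.K) = (c.t : G ⧸ c.K) * x} := by
  rw [MonoidHom.range_comp, c.range, MonoidHom.map_closure]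
  congr 1
  ext x
  constructor
  · rintro ⟨y, ⟨g, rfl, hy⟩, rfl⟩
    exact ⟨(g : G ⧸ c.K), rfl, congrArg (QuotientGroup.mk' c.K) hy⟩
  · rintro ⟨g', rfl, hx⟩
    obtain ⟨g, rfl⟩ := QuotientGroup.mk_surjective g'
    exact ⟨g * c.t * g⁻¹, ⟨g, rfl, (c.commute_of_mk (c.conj_mem_X g c.t_mem_X) c.t_mem_X hx).eq⟩, rfl⟩

/-- The hypothesis passes to the quotient by `K`. -/
def quot : WC (G ⧸ c.K) where
  t := (c.t : G ⧸ c.K)
  two := c.two_quot
  φ := (QuotientGroup.mk' c.K).comp c.φ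
  inj := by
    rw [← MonoidHom.ker_eq_bot_iff, Subgroup.eq_bot_iff_forall]
    intro k hk
    exact c.mk_injective ((QuotientGroup.eq_one_iff _).1 hk)
  range := c.range_quot

theorem quot_X {y : G ⧸ c.K} (h : y ∈ c.quot.X) : ∃ x ∈ c.X, (x : G ⧸ c.K) = y := by
  obtain ⟨g', rfl⟩ := h
  obtain ⟨g, rfl⟩ := QuotientGroup.mk_surjective g'
  exact ⟨g * c.t * g⁻¹, ⟨g, rfl⟩, rfl⟩

theorem quot_K : c.quot.K = ⊥ := by
  rw [Subgroup.eq_bot_iff_forall]
  intro g' hg'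
  obtain ⟨g, rfl⟩ := QuotientGroup.mk_surjective g'
  refine (QuotientGroup.eq_one_iff _).2 (c.mem_K.2 fun x hx => ?_)
  have hX : (x : G ⧸ c.K) ∈ c.quot.X := by
    obtain ⟨a, rfl⟩ := hx
    exact ⟨(a : G ⧸ c.K), rfl⟩
  have h := c.quot.mem_K.1 hg' _ hX
  have h1 := c.eq_of_mk (c.conj_mem_X g hx) hx (by
    rw [← QuotientGroup.eq]
    show ((g * x * g⁻¹ : G) : G ⧸ c.K) = (x : G ⧸ c.K)
    rw [QuotientGroup.mk_mul, QuotientGroup.mk_mul, QuotientGroup.mk_inv, mul_inv_eq_iff_eq_mul]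
    exact h.eq)
  exact mul_inv_eq_iff_eq_mul.1 h1

theorem quot_Δ (h : ∀ y ∈ c.quot.X, y ∈ c.quot.Δ) : ∀ x ∈ c.X, x ∈ c.Δ := by
  have key : ∀ y, Relation.ReflTransGen c.quot.Adj c.quot.t y → ∀ x ∈ c.X, (x : G ⧸ c.K) = y → x ∈ c.Δ := by
    intro y hy
    induction hy with
    | refl =>
      intro x hx e
      rw [c.eq_of_mk hx c.t_mem_X (QuotientGroup.eq.1 e)]
      exact c.t_mem_Δ
    | tail _ hab ih =>
      intro x hx e
      obtain ⟨a, ha, ea⟩ := c.quot_X hab.1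
      refine c.mem_Δ_of_commute (ih a ha ea) hx (c.commute_of_mk ha hx ?_)
      rw [ea, e]; exact hab.2.2
  intro x hx
  refine key _ (h _ ?_) x hx rfl
  obtain ⟨a, rfl⟩ := hx
  exact ⟨(a : G ⧸ c.K), rfl⟩

end WC

end Cfsg.Agent.J1Weak
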